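import Mathlib

/-!
# Nondegenerate alternating pairings on finite abelian groups

* `card_hom_le`: at most `|X|` characters with values in a field.
* `exists_sq`: a group with a nondegenerate alternating pairing has square order.
* `prime_le`: an isometry of prime order `ℓ` prime to `|X| = a²` has `ℓ ≤ a + 1`, with equality
  only if it is fixed point free.
* `eq_two_pow`, `not_sq_dvd`: the case `ℓ = a + 1`.
-/

set_option autoImplicit false

namespace CfsgLib.RegLinear

variable {X : Type*} [CommGroup X] [Finite X] {L : Type*} [Field L] [Finite L]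

theorem card_hom_le : Nat.card (X →* Lˣ) ≤ Nat.card X := by
  classical
  haveI : Fintype X := Fintype.ofFinite X
  haveI : Finite (X →* Lˣ) := Finite.of_injective _ DFunLike.coe_injective
  haveI : Fintype (X →* Lˣ) := Fintype.ofFinite _
  have h : LinearIndependent L (fun f : X →* Lˣ => ((Units.coeHom L).comp f : X → L)) :=
    (linearIndependent_monoidHom X L).comp (fun f : X →* Lˣ => (Units.coeHom L).comp f)
      (fun f g e => MonoidHom.ext fun x => Units.ext (DFunLike.congr_fun e x))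
  have := h.fintype_card_le_finrank
  rwa [Module.finrank_fintype_fun_eq_card, ← Nat.card_eq_fintype_card, ← Nat.card_eq_fintype_card] at this

/-- Isometries of a pairing. -/
def isometries (φ : X →* X →* Lˣ) : Subgroup (MulAut X) where
  carrier := {σ | ∀ x y, φ (σ x) (σ y) = φ x y}
  one_mem' := fun _ _ => rfl
  mul_mem' := fun {σ τ} hσ hτ x y => (hσ (τ x) (τ y)).trans (hτ x y)
  inv_mem' := fun {σ} hσ x y => by
    have := hσ (σ⁻¹ x) (σ⁻¹ y)
    rw [MulAut.apply_inv_self, MulAut.apply_inv_self] at this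
    exact this.symm

variable (φ : X →* X →* Lˣ)

omit [Finite X] [Finite L] in
theorem antisymm (halt : ∀ x, φ x x = 1) (x y : X) : φ x y * φ y x = 1 := by
  have := halt (x * y)
  simp only [map_mul, MonoidHom.mul_apply, halt, one_mul, mul_one] at this
  first | exact this | (rw [mul_comm]; exact this)

/-- Restriction of a pairing. -/
def restrictPairing (Y : Subgroup X) : Y →* Y →* Lˣ :=
  MonoidHom.mk' (fun x => (φ x).comp Y.subtype) fun x y => by
    ext z; simp

/-- Nondegeneracy on a subgroup. -/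
def NondegOn (Y : Subgroup X) : Prop := ∀ x ∈ Y, (∀ y ∈ Y, φ x y = 1) → x = 1

theorem exists_sq (halt : ∀ x, φ x x = 1) (hnd : ∀ x, (∀ y, φ x y = 1) → x = 1) :
    ∃ a, Nat.card X = a ^ 2 := by
  classical
  let R : (U : Subgroup X) → X →* (U →* Lˣ) := fun U =>
    MonoidHom.mk' (fun x => (φ x).comp U.subtype) (fun x y => by ext z; simp)
  have hR : ∀ (U : Subgroup X) (x : X), x ∈ (R U).ker ↔ ∀ u ∈ U, φ x u = 1 := fun U x => by
    rw [MonoidHom.mem_ker]
    exact ⟨fun h u hu => DFunLike.congr_fun h ⟨u, hu⟩, fun h => MonoidHom.ext fun u => h u u.2⟩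
  obtain ⟨U, hU, hmax⟩ := Set.Finite.exists_maximalFor (fun U : Subgroup X => Nat.card U)
    {U : Subgroup X | ∀ x ∈ U, ∀ y ∈ U, φ x y = 1} (Set.toFinite _)
    ⟨⊥, fun x hx y _ => by rw [Subgroup.mem_bot.1 hx]; simp⟩
  have hperp : (R U).ker = U := by
    refine le_antisymm (fun x hx => ?_) fun x hx => (hR U x).2 (hU x hx)
    rw [hR] at hx
    let T : Subgroup X := U ⊔ Subgroup.zpowers x
    have h1 : ∀ u ∈ U, ∀ t ∈ T, φ u t = 1 := fun u hu t ht => by
      have hle : T ≤ (φ u).ker := sup_le (fun v hv => hU u hu v hv) (Subgroup.zpowers_le.2 (by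
        have := antisymm φ halt x u
        rw [hx u hu, one_mul] at this
        exact this))
      exact hle ht
    have h2 : ∀ t ∈ T, φ x t = 1 := fun t ht =>
      (sup_le (fun v hv => hx v hv) (Subgroup.zpowers_le.2 (halt x)) : T ≤ (φ x).ker) ht
    have hT : T ∈ {U : Subgroup X | ∀ x ∈ U, ∀ y ∈ U, φ x y = 1} := by
      intro s hs t ht
      have hle : T ≤ (φ.flip t).ker := sup_le (fun v hv => h1 v hv t ht) (Subgroup.zpowers_le.2 (h2 t ht))
      exact hle hs
    have hle : U ≤ T := le_sup_left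
    have heq : U = T := Subgroup.eq_of_le_of_card_ge hle (hmax hT (Subgroup.card_le_of_le hle))
    rw [heq]
    exact Subgroup.mem_sup_right (Subgroup.mem_zpowers x)
  refine ⟨Nat.card U, ?_⟩
  have hidx : U.index = Nat.card U := by
    refine le_antisymm ?_ ?_
    · conv_lhs => rw [← hperp, Subgroup.index_ker]
      haveI : Finite (U →* Lˣ) := Finite.of_injective _ DFunLike.coe_injective
      exact ((R U).range.card_le_card_group).trans card_hom_le
    · let S : U → (X ⧸ U →* Lˣ) := fun u => QuotientGroup.lift U (φ u) fun v hv => hU u u.2 v hv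
      have hS : Function.Injective S := fun u v e => by
        have h : ∀ y, φ u y = φ v y := fun y => DFunLike.congr_fun e (QuotientGroup.mk y)
        refine Subtype.ext (inv_mul_eq_one.1 (hnd _ fun y => ?_))
        rw [map_mul, map_inv, MonoidHom.mul_apply, MonoidHom.inv_apply, h, inv_mul_cancel]
      haveI : Finite (X ⧸ U →* Lˣ) := Finite.of_injective _ DFunLike.coe_injective
      exact (Nat.card_le_card_of_injective S hS).trans card_hom_le
  rw [← U.card_mul_index, hidx, sq]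

theorem exists_sq_of_nondegOn (halt : ∀ x, φ x x = 1) (Y : Subgroup X) (hY : NondegOn φ Y) :
    ∃ a, Nat.card Y = a ^ 2 :=
  exists_sq (restrictPairing φ Y) (fun x => halt x) fun x hx =>
    Subtype.ext (hY x x.2 fun y hy => hx ⟨y, hy⟩)

/-- The fixed subgroup. -/
def fixSub (σ : MulAut X) : Subgroup X := MonoidHom.eqLocus σ.toMonoidHom (MonoidHom.id X)

omit [Finite X] in
theorem mem_fixSub {σ : MulAut X} {x : X} : x ∈ fixSub σ ↔ σ x = x := Iff.rfl

/-- An isometry of prime order. -/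
theorem prime_le (halt : ∀ x, φ x x = 1) (hnd : ∀ x, (∀ y, φ x y = 1) → x = 1) (σ : MulAut X)
    (hσ : σ ∈ isometries φ) {l : ℕ} [hl : Fact l.Prime] (hlX : ¬ l ∣ Nat.card X) (hσl : σ ^ l = 1)
    (hσ1 : σ ≠ 1) {a : ℕ} (ha : Nat.card X = a ^ 2) :
    l ≤ a + 1 ∧ (a + 1 ≤ l → fixSub σ = ⊥) := by
  set F := fixSub σ
  have hnF : NondegOn φ F := by
    intro x hx h
    refine hnd x fun y => ?_
    have hxk : ∀ k : ℕ, (σ ^ k) x = x := fun k => by
      induction k with
      | zero => rfl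
      | succ k ih => rw [pow_succ', MulAut.mul_apply, ih]; exact hx
    let N : X := ∏ i ∈ Finset.range l, (σ ^ i) y
    have hN : N ∈ F := by
      rw [mem_fixSub, map_prod]
      have h1 := Finset.prod_range_succ' (fun i => (σ ^ i) y) l
      have h2 := Finset.prod_range_succ (fun i => (σ ^ i) y) l
      rw [h2, hσl, pow_zero] at h1
      refine Eq.trans (Finset.prod_congr rfl fun i _ => ?_) (mul_right_cancel h1).symm
      rw [pow_succ', MulAut.mul_apply]
    have h3 : (φ x y) ^ l = 1 := by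
      rw [← h N hN, map_prod, Finset.prod_congr rfl (g := fun _ => φ x y) fun i _ => by
        conv_lhs => rw [← hxk i]
        exact (pow_mem hσ i) x y]
      rw [Finset.prod_const, Finset.card_range]
    have h4 : (φ x y) ^ Nat.card X = 1 := by rw [← map_pow, pow_card_eq_one', map_one]
    have h5 := Nat.dvd_gcd (orderOf_dvd_of_pow_eq_one h3) (orderOf_dvd_of_pow_eq_one h4)
    rw [Nat.Coprime.gcd_eq_one ((hl.out.coprime_iff_not_dvd).2 hlX), Nat.dvd_one,
      orderOf_eq_one_iff] at h5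
    exact h5
  obtain ⟨b, hb⟩ := exists_sq_of_nondegOn φ halt F hnF
  have hmod : Nat.card X ≡ Nat.card F [MOD l] := by
    have hp : IsPGroup l (Subgroup.zpowers σ) :=
      IsPGroup.of_card (n := 1) (by rw [Nat.card_zpowers, orderOf_eq_prime hσl hσ1, pow_one])
    refine (hp.card_modEq_card_fixedPoints X).trans ?_
    refine congrArg (· % l) ?_
    refine Nat.card_congr (Equiv.subtypeEquivRight fun x => ?_)
    constructor
    · exact fun h => h ⟨σ, Subgroup.mem_zpowers σ⟩
    · rintro h ⟨τ, hτ⟩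
      exact MulAction.mem_stabilizer_iff.1
        ((Subgroup.zpowers_le.2 (MulAction.mem_stabilizer_iff.2 h :
          σ ∈ MulAction.stabilizer (MulAut X) x)) hτ)
  obtain ⟨j, hj⟩ : b ∣ a := (Nat.pow_dvd_pow_iff two_ne_zero).1
    (hb ▸ ha ▸ Subgroup.card_subgroup_dvd_card F)
  have hb0 : 0 < b := by
    rcases Nat.eq_zero_or_pos b with rfl | h
    · exact absurd hb (by simp [Nat.card_pos.ne'])
    · exact h
  have hlb : ¬ l ∣ b := fun h => hlX (ha ▸ dvd_pow (hj ▸ h.mul_right j) two_ne_zero)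
  have hj2 : 2 ≤ j := by
    have hne : F ≠ ⊤ := fun h => hσ1 (MulEquiv.ext fun x =>
      mem_fixSub.1 (show x ∈ F by rw [h]; exact Subgroup.mem_top x))
    by_contra hlt
    refine hne (Subgroup.eq_top_of_le_card _ ?_)
    rw [ha, hb, hj]
    exact Nat.pow_le_pow_left (by nlinarith) 2
  have hdvd : l ∣ b * b * ((j - 1) * (j + 1)) := by
    have h := (Nat.modEq_iff_dvd' (by rw [ha, hb, hj]; exact Nat.pow_le_pow_left (by nlinarith) 2)).1 hmod.symm
    rw [ha, hb, hj] at h
    obtain ⟨i, rfl⟩ : ∃ i, j = i + 1 := ⟨j - 1, by omega⟩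
    rw [Nat.add_sub_cancel]
    have e : (b * (i + 1)) ^ 2 - b ^ 2 = b * b * (i * (i + 1 + 1)) := by
      have : (b * (i + 1)) ^ 2 = b * b * (i * (i + 1 + 1)) + b ^ 2 := by ring
      omega
    rwa [e] at h
  have hlj : l ≤ j + 1 := by
    rcases hl.out.dvd_mul.1 hdvd with h | h
    · rcases hl.out.dvd_mul.1 h with h | h <;> exact absurd h hlb
    · rcases hl.out.dvd_mul.1 h with h | h
      · have := Nat.le_of_dvd (by omega) h; omega
      · exact Nat.le_of_dvd (by omega) h
  refine ⟨by nlinarith, fun hge => ?_⟩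
  have hb1 : b = 1 := by nlinarith
  exact Subgroup.eq_bot_of_card_eq _ (by rw [hb, hb1, one_pow])

theorem eq_two_pow (halt : ∀ x, φ x x = 1) (hnd : ∀ x, (∀ y, φ x y = 1) → x = 1) (σ : MulAut X)
    (hσ : σ ∈ isometries φ) {l : ℕ} [hl : Fact l.Prime] (hlX : ¬ l ∣ Nat.card X) (hσl : σ ^ l = 1)
    (hσ1 : σ ≠ 1) {a : ℕ} (ha : Nat.card X = a ^ 2) (hla : a + 1 ≤ l) : ∃ w, a = 2 ^ w := by
  haveI : Fact (Nat.Prime 2) := ⟨Nat.prime_two⟩
  have hF := (prime_le φ halt hnd σ hσ hlX hσl hσ1 ha).2 hla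
  have hal : l ≤ a + 1 := (prime_le φ halt hnd σ hσ hlX hσl hσ1 ha).1
  rcases Nat.even_or_odd a with hev | hodd
  swap
  · have : Even l := by rw [show l = a + 1 by omega]; exact hodd.add_one
    have hl2 := hl.out.even_iff.1 this
    exact ⟨0, by omega⟩
  set k := (Nat.card X).factorization 2 with hk
  let Y : Subgroup X := (powMonoidHom (2 ^ k) : X →* X).ker
  have hmem : ∀ x, x ∈ Y ↔ x ^ 2 ^ k = 1 := fun x => Iff.rfl
  have hY2 : IsPGroup 2 Y := fun y => ⟨k, Subtype.ext y.2⟩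
  obtain ⟨h, hh, hXk⟩ : ∃ h, Nat.Coprime h 2 ∧ Nat.card X = 2 ^ k * h :=
    ⟨_, (Nat.coprime_ordCompl Nat.prime_two Nat.card_pos.ne').symm,
      (Nat.ordProj_mul_ordCompl_eq_self (Nat.card X) 2).symm⟩
  have hnY : NondegOn φ Y := by
    intro x hx h0
    refine hnd x fun y => ?_
    have h1 : y ^ h ∈ Y := by
      rw [hmem, ← pow_mul, mul_comm, ← hXk]; exact pow_card_eq_one'
    have h2 : (φ x y) ^ h = 1 := by rw [← map_pow]; exact h0 _ h1
    have h3 : (φ x y) ^ 2 ^ k = 1 := by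
      rw [← MonoidHom.pow_apply, ← map_pow, (hmem x).1 hx, map_one]; rfl
    have h5 := Nat.dvd_gcd (orderOf_dvd_of_pow_eq_one h2) (orderOf_dvd_of_pow_eq_one h3)
    rw [Nat.Coprime.gcd_eq_one (hh.pow_right k), Nat.dvd_one, orderOf_eq_one_iff] at h5
    exact h5
  have hYσ : ∀ x, x ∈ Y → σ x ∈ Y := fun x hx => by rw [hmem, ← map_pow, (hmem x).1 hx, map_one]
  have hYσ' : ∀ x, x ∈ Y → σ⁻¹ x ∈ Y := fun x hx => by rw [hmem, ← map_pow, (hmem x).1 hx, map_one]
  let τ : MulAut Y :=
    { toFun := fun x => ⟨σ x, hYσ x x.2⟩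
      invFun := fun x => ⟨σ⁻¹ x, hYσ' x x.2⟩
      left_inv := fun x => Subtype.ext (MulAut.inv_apply_self X σ (x : X))
      right_inv := fun x => Subtype.ext (MulAut.apply_inv_self X σ (x : X))
      map_mul' := fun x y => Subtype.ext (map_mul σ (x : X) y) }
  have hτpow : ∀ (i : ℕ) (x : Y), (((τ ^ i) x : Y) : X) = (σ ^ i) (x : X) := fun i x => by
    induction i with
    | zero => rfl
    | succ i ih => rw [pow_succ', pow_succ', MulAut.mul_apply, MulAut.mul_apply, ← ih]; rfl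
  have hτl : τ ^ l = 1 := MulEquiv.ext fun x => Subtype.ext (by rw [hτpow, hσl]; rfl)
  obtain ⟨z, hz, hz1⟩ : ∃ z ∈ Y, z ≠ 1 := by
    obtain ⟨c, rfl⟩ := hev
    obtain ⟨z, hz⟩ := exists_prime_orderOf_dvd_card' (G := X) 2
      (by rw [ha, show (c + c) ^ 2 = 2 * (2 * c * c) by ring]; exact dvd_mul_right 2 _)
    refine ⟨z, ?_, fun e => by rw [e, orderOf_one] at hz; omega⟩
    rw [hmem, ← orderOf_dvd_iff_pow_eq_one, hz]
    refine dvd_pow_self 2 ?_
    rw [hk]
    exact (Nat.Prime.factorization_pos_of_dvd Nat.prime_two Nat.card_pos.ne'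
      (hz ▸ orderOf_dvd_natCard z)).ne'
  have hτ1 : τ ≠ 1 := fun e => hz1 (by
    have : σ z = z := congrArg Subtype.val (MulEquiv.congr_fun e ⟨z, hz⟩)
    have h1 : z ∈ fixSub σ := this
    rwa [hF, Subgroup.mem_bot] at h1)
  obtain ⟨a', ha'⟩ := exists_sq_of_nondegOn φ halt Y hnY
  have hlY : ¬ l ∣ Nat.card Y := fun e => hlX (e.trans (Subgroup.card_subgroup_dvd_card Y))
  have h7 := (prime_le (restrictPairing φ Y) (fun x => halt x)
    (fun x hx => Subtype.ext (hnY x x.2 fun y hy => hx ⟨y, hy⟩)) τ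
    (fun x y => hσ x y) hlY hτl hτ1 ha').1
  obtain ⟨w, hw⟩ := hY2.exists_card_eq
  have hle : a' ≤ a := (Nat.pow_le_pow_iff_left two_ne_zero).1
    (ha' ▸ ha ▸ Subgroup.card_le_card_group Y)
  have hae : a' = a := by omega
  obtain ⟨i, -, hi⟩ := (Nat.dvd_prime_pow Nat.prime_two).1
    (show a ∣ 2 ^ w by rw [← hw, ha', hae]; exact dvd_pow_self a two_ne_zero)
  exact ⟨i, hi⟩

theorem not_sq_dvd (halt : ∀ x, φ x x = 1) (hnd : ∀ x, (∀ y, φ x y = 1) → x = 1) {l : ℕ}
    [hl : Fact l.Prime] (hlX : ¬ l ∣ Nat.card X) {a : ℕ} (ha : Nat.card X = a ^ 2) (ha2 : 2 ≤ a)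
    (hla : l = a + 1) (Γ : Subgroup (MulAut X)) (hΓ : Γ ≤ isometries φ) : ¬ l ^ 2 ∣ Nat.card Γ := by
  classical
  intro hdvd
  obtain ⟨P, hP⟩ := Sylow.exists_subgroup_card_pow_prime l hdvd
  have hfree : ∀ σ : P, σ ≠ 1 → ∀ x : X, ((σ : Γ) : MulAut X) x = x → x = 1 := by
    intro σ hσ x hx
    obtain ⟨i, hi, hio⟩ := (Nat.dvd_prime_pow hl.out).1 (hP ▸ orderOf_dvd_natCard σ)
    have hi0 : i ≠ 0 := fun e => hσ (orderOf_eq_one_iff.1 (by rw [hio, e, pow_zero]))
    set ρ : MulAut X := ((σ : Γ) : MulAut X) ^ l ^ (i - 1) with hρ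
    have ho : orderOf ((σ : Γ) : MulAut X) = l ^ i := by
      rw [Subgroup.orderOf_coe, Subgroup.orderOf_coe, hio]
    have hρo : orderOf ρ = l := by
      rw [hρ, orderOf_pow_of_dvd (pow_ne_zero _ hl.out.ne_zero) (ho ▸ pow_dvd_pow l (Nat.sub_le i 1)), ho,
        Nat.pow_div (Nat.sub_le i 1) hl.out.pos, show i - (i - 1) = 1 by omega, pow_one]
    have h1 : ρ x = x := MulAction.mem_stabilizer_iff.1
      (pow_mem (MulAction.mem_stabilizer_iff.2 hx : ((σ : Γ) : MulAut X) ∈ MulAction.stabilizer _ x) _)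
    have h2 := (prime_le φ halt hnd ρ (pow_mem (hΓ (σ : Γ).2) _) hlX
      (by rw [← hρo]; exact pow_orderOf_eq_one ρ)
      (fun e => hl.out.ne_one (by rw [← hρo, e, orderOf_one])) ha).2 hla.ge
    have h3 : x ∈ fixSub ρ := h1
    rwa [h2, Subgroup.mem_bot] at h3
  let R : SubMulAction P X :=
    { carrier := {x | x ≠ 1}
      smul_mem' := fun σ x hx e => hx ((((σ : Γ) : MulAut X)).injective (e.trans (map_one _).symm)) }
  have hst : ∀ x : R, MulAction.stabilizer P x = ⊥ := fun x => by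
    rw [Subgroup.eq_bot_iff_forall]
    intro σ hσ
    by_contra hne
    exact x.2 (hfree σ hne x.1 ((SubMulAction.val_smul σ x).symm.trans
      (congrArg Subtype.val (MulAction.mem_stabilizer_iff.1 hσ))))
  have hR : Nat.card R = Nat.card X - 1 := by
    haveI : Fintype X := Fintype.ofFinite X
    show Nat.card {x : X // x ≠ 1} = _
    rw [Nat.card_eq_fintype_card, Nat.card_eq_fintype_card, Fintype.card_subtype_compl,
      Fintype.card_subtype_eq]
  have h1 : l ^ 2 ∣ a ^ 2 - 1 := by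
    rw [← ha, ← hR, Nat.card_congr (MulAction.selfEquivOrbitsQuotientProd hst), Nat.card_prod, hP]
    exact dvd_mul_left _ _
  subst hla
  obtain ⟨c, rfl⟩ : ∃ c, a = c + 1 := ⟨a - 1, by omega⟩
  have h2 : (c + 1) ^ 2 - 1 = c * (c + 1 + 1) := by
    have : (c + 1) ^ 2 = c * (c + 1 + 1) + 1 := by ring
    omega
  rw [h2, sq] at h1
  have h3 := Nat.le_of_dvd (by omega) (Nat.dvd_of_mul_dvd_mul_right (by omega) h1)
  omega

end CfsgLib.RegLinear
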