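import Cfsg.Agent.RegularLinear.Field
import Cfsg.Agent.RegularLinear.Pairing
import Cfsg.Agent.Zsigmondy.Basic

/-!
# Solvable transitive linear groups (Huppert's theorem)

`transitive_structure`: semilinear, or degree `3², 5², 7², 11², 23², 3⁴`.
-/

set_option autoImplicit false

namespace CfsgLib.RegLinear

open scoped commutatorElement

universe u

variable {q : ℕ} [Fact q.Prime] {V : Type u} [AddCommGroup V] [Module (ZMod q) V] [Finite V]
  [Nontrivial V] {G : Type*} [Group G] [Finite G]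

omit [Finite V] [Finite G] in
theorem card_sub_one_dvd (ρ : G →* (V ≃ₗ[ZMod q] V))
    (htrans : ∀ v w : V, v ≠ 0 → w ≠ 0 → ∃ g : G, ρ g v = w) [Finite G] [Finite V] :
    Nat.card V - 1 ∣ Nat.card G := by
  classical
  obtain ⟨v₀, hv₀⟩ := exists_ne (0 : V)
  haveI : Fintype V := Fintype.ofFinite V
  let St : Subgroup G :=
    { carrier := {g | ρ g v₀ = v₀}
      one_mem' := by simp
      mul_mem' := fun {g h} hg hh => by
        show ρ (g * h) v₀ = v₀
        rw [map_mul, LinearEquiv.mul_apply, hh, hg]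
      inv_mem' := fun {g} hg => by
        show ρ g⁻¹ v₀ = v₀
        conv_lhs => rw [← hg]
        rw [← LinearEquiv.mul_apply, ← map_mul, inv_mul_cancel, map_one, LinearEquiv.coe_one, id_eq] }
  let f : G ⧸ St → {v : V // v ≠ 0} := Quotient.lift
    (fun g => ⟨ρ g v₀, (LinearEquiv.map_ne_zero_iff _).2 hv₀⟩) fun g h hgh => Subtype.ext (by
      have h1 : ρ (g⁻¹ * h) v₀ = v₀ := QuotientGroup.leftRel_apply.1 hgh
      show ρ g v₀ = ρ h v₀
      conv_lhs => rw [← h1]
      rw [← LinearEquiv.mul_apply, ← map_mul, mul_inv_cancel_left])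
  have hf : Function.Bijective f := ⟨fun x y e => by
      obtain ⟨g, rfl⟩ := QuotientGroup.mk_surjective x
      obtain ⟨h, rfl⟩ := QuotientGroup.mk_surjective y
      have e' : ρ g v₀ = ρ h v₀ := congrArg Subtype.val e
      refine (QuotientGroup.eq).2 ?_
      show ρ (g⁻¹ * h) v₀ = v₀
      rw [map_mul, LinearEquiv.mul_apply, ← e', ← LinearEquiv.mul_apply, ← map_mul, inv_mul_cancel,
        map_one, LinearEquiv.coe_one, id_eq],
    fun v => by
      obtain ⟨g, hg⟩ := htrans v₀ v hv₀ v.2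
      exact ⟨QuotientGroup.mk g, Subtype.ext hg⟩⟩
  have h1 : Nat.card (G ⧸ St) = Nat.card V - 1 := by
    rw [Nat.card_congr (Equiv.ofBijective f hf), Nat.card_eq_fintype_card, Nat.card_eq_fintype_card,
      Fintype.card_subtype_compl, Fintype.card_subtype_eq]
  rw [← h1]
  exact ⟨Nat.card St, St.card_eq_card_quotient_mul_card_subgroup⟩

/-- Maximal class two normal subgroup over a maximal abelian normal subgroup. -/
theorem exists_class_two (hsol : Group.IsSolvable G) (A C : Subgroup G) [A.Normal] [C.Normal]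
    (hAC : A ≤ C) (hcent : ∀ a ∈ A, ∀ c ∈ C, a * c = c * a)
    (hmax : ∀ B : Subgroup G, B.Normal → (∀ x ∈ B, ∀ y ∈ B, x * y = y * x) → A ≤ B → B = A) :
    ∃ B : Subgroup G, B.Normal ∧ A ≤ B ∧ B ≤ C ∧ (∀ x ∈ B, ∀ y ∈ B, ⁅x, y⁆ ∈ A) ∧
      (∀ c ∈ C, (∀ b ∈ B, c * b = b * c) → c ∈ A) := by
  classical
  obtain ⟨B, ⟨hBn, hAB, hBC, hB'⟩, hBmax⟩ := Set.Finite.exists_maximalFor
    (fun B : Subgroup G => Nat.card B)
    {B : Subgroup G | B.Normal ∧ A ≤ B ∧ B ≤ C ∧ ∀ x ∈ B, ∀ y ∈ B, ⁅x, y⁆ ∈ A} (Set.toFinite _)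
    ⟨A, inferInstance, le_rfl, hAC, fun x hx y hy => by
      rw [commutatorElement_def]
      exact mul_mem (mul_mem (mul_mem hx hy) (inv_mem hx)) (inv_mem hy)⟩
  refine ⟨B, hBn, hAB, hBC, hB', ?_⟩
  haveI := hBn
  let W : Subgroup G := C ⊓ Subgroup.centralizer (B : Set G)
  haveI hWn : W.Normal := Subgroup.normal_inf_normal _ _
  by_contra hcon
  push Not at hcon
  obtain ⟨c, hc, hcb, hcA⟩ := hcon
  have hW : ¬ W ≤ A := fun h => hcA (h ⟨hc, Subgroup.mem_centralizer_iff.2 fun b hb => (hcb b hb).symm⟩)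
  -- the last derived term outside `A`
  let D : ℕ → Subgroup G := fun k => (derivedSeries W k).map W.subtype
  obtain ⟨k, hk⟩ := (isSolvable_def W).1 inferInstance
  have hex : ∃ k, D k ≤ A := ⟨k, by simp [D, hk]⟩
  obtain ⟨i, hi⟩ : ∃ i, Nat.find hex = i + 1 := by
    refine ⟨Nat.find hex - 1, ?_⟩
    have : Nat.find hex ≠ 0 := fun e => hW (by
      have := Nat.find_spec hex
      rw [e] at this
      simpa [D, ← MonoidHom.range_eq_map] using this)
    omega
  have hDi : ¬ D i ≤ A := Nat.find_min hex (by omega)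
  have hDW : D i ≤ W := Subgroup.map_subtype_le _
  haveI : (D i).Normal := by
    haveI : (derivedSeries W i).Characteristic := derivedSeries_characteristic W i
    exact inferInstanceAs ((derivedSeries W i).map W.subtype).Normal
  have hDD : ∀ x ∈ D i, ∀ y ∈ D i, ⁅x, y⁆ ∈ A := by
    rintro _ ⟨x, hx, rfl⟩ _ ⟨y, hy, rfl⟩
    refine Nat.find_spec hex ?_
    rw [hi]
    refine ⟨⁅x, y⁆, ?_, map_commutatorElement W.subtype x y⟩
    rw [derivedSeries_succ]
    exact Subgroup.commutator_mem_commutator hx hy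
  -- enlarge `B`
  haveI : (B ⊔ D i).Normal := Subgroup.sup_normal _ _
  have hle : B ⊔ D i ≤ B := by
    have hmem : B ⊔ D i ∈ {B : Subgroup G | B.Normal ∧ A ≤ B ∧ B ≤ C ∧ ∀ x ∈ B, ∀ y ∈ B, ⁅x, y⁆ ∈ A} := by
      refine ⟨inferInstance, hAB.trans le_sup_left, sup_le hBC (hDW.trans inf_le_left), ?_⟩
      have hle : ⁅B ⊔ D i, B ⊔ D i⁆ ≤ A := by
        let π := QuotientGroup.mk' A
        have hc1 : ∀ x ∈ (B : Set G) ∪ D i, ∀ y ∈ (B : Set G) ∪ D i, π x * π y = π y * π x := by
          have key : ∀ x y : G, ⁅x, y⁆ ∈ A → π x * π y = π y * π x := fun x y h => by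
            rw [← commutatorElement_eq_one_iff_mul_comm, ← map_commutatorElement]
            exact (QuotientGroup.eq_one_iff _).2 h
          have hBD : ∀ x ∈ B, ∀ y ∈ D i, π x * π y = π y * π x := fun x hx y hy => by
            rw [← map_mul, ← map_mul, Subgroup.mem_centralizer_iff.1 (hDW hy).2 x hx]
          rintro x (hx | hx) y (hy | hy)
          · exact key x y (hB' x hx y hy)
          · exact hBD x hx y hy
          · exact (hBD y hy x hx).symm
          · exact key x y (hDD x hx y hy)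
        rw [Subgroup.commutator_le]
        intro x hx y hy
        have hsup : B ⊔ D i ≤ (Subgroup.centralizer (Subgroup.centralizer (π '' ((B : Set G) ∪ D i)) :
            Set (G ⧸ A))).comap π := by
          refine sup_le (fun z hz => ?_) fun z hz => ?_ <;>
          · rw [Subgroup.mem_comap, Subgroup.mem_centralizer_iff]
            intro w hw
            exact (Subgroup.mem_centralizer_iff.1 hw _ ⟨z, by simp [hz], rfl⟩).symm
        have hsup' : B ⊔ D i ≤ (Subgroup.centralizer (π '' ((B : Set G) ∪ D i))).comap π := by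
          refine sup_le (fun z hz => ?_) fun z hz => ?_ <;>
          · rw [Subgroup.mem_comap, Subgroup.mem_centralizer_iff]
            rintro _ ⟨w, hw, rfl⟩
            exact hc1 w hw z (by simp [hz])
        refine (QuotientGroup.eq_one_iff _).1 ?_
        show π ⁅x, y⁆ = 1
        rw [map_commutatorElement, commutatorElement_eq_one_iff_mul_comm]
        exact (Subgroup.mem_centralizer_iff.1 (hsup hx) _ (hsup' hy)).symm
      exact fun x hx y hy => hle (Subgroup.commutator_mem_commutator hx hy)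
    exact (Subgroup.eq_of_le_of_card_ge le_sup_left (hBmax hmem (Subgroup.card_le_of_le le_sup_left))).ge
  refine hDi ((le_inf (le_sup_right.trans hle) hDW).trans (le_of_eq (hmax (B ⊓ W) ?_ ?_ ?_)))
  · exact Subgroup.normal_inf_normal _ _
  · exact fun x hx y hy => Subgroup.mem_centralizer_iff.1 hy.2.2 x hx.1
  · exact le_inf hAB (le_inf hAC (fun a ha => Subgroup.mem_centralizer_iff.2 fun b hb =>
      (hcent a ha b (hBC hb)).symm))

theorem two_pow_eq_of_sq_eq {m : ℕ} : 2 ≤ m → 3 ^ m ≤ 4 * m + 1 → m = 2 := by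
  intro hm h
  by_contra hne
  have key : ∀ n, 3 ≤ n → 4 * n + 1 < 3 ^ n := by
    intro n hn
    induction n, hn using Nat.le_induction with
    | base => norm_num
    | succ n hn ih => rw [pow_succ]; omega
  have := key m (by omega)
  omega

/-- Huppert's theorem. -/
theorem transitive_structure (hsol : Group.IsSolvable G) (ρ : G →* (V ≃ₗ[ZMod q] V))
    (hρ : Function.Injective ρ) (htrans : ∀ v w : V, v ≠ 0 → w ≠ 0 → ∃ g : G, ρ g v = w) :
    (∃ (F : Type) (_ : Field F) (_ : Fintype F) (e : V ≃+ F),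
        ∀ g : G, ∃ (a : F) (σ : F ≃+* F), ∀ v : V, e (ρ g v) = a * σ (e v)) ∨
    Nat.card V ∈ ({9, 25, 49, 121, 529, 81} : Set ℕ) := by
  classical
  haveI := hsol
  have hqp : q.Prime := Fact.out
  obtain ⟨A, ⟨hAn, hAc⟩, hAmax⟩ := Set.Finite.exists_maximalFor (fun A : Subgroup G => Nat.card A)
    {A : Subgroup G | A.Normal ∧ ∀ x ∈ A, ∀ y ∈ A, x * y = y * x} (Set.toFinite _)
    ⟨⊥, inferInstance, fun x hx y hy => by rw [Subgroup.mem_bot.1 hx, Subgroup.mem_bot.1 hy]⟩
  haveI := hAn
  have hmax : ∀ B : Subgroup G, B.Normal → (∀ x ∈ B, ∀ y ∈ B, x * y = y * x) → A ≤ B → B = A :=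
    fun B h1 h2 h3 => (Subgroup.eq_of_le_of_card_ge h3 (hAmax ⟨h1, h2⟩ (Subgroup.card_le_of_le h3))).symm
  obtain ⟨K, _, _, _, χ, τ, d, hd, hK, hAut, hχ, hχV, hτ, hker⟩ := exists_field_data ρ hρ htrans A hAc
  haveI : Fintype K := Fintype.ofFinite K
  haveI : Finite (K ≃+* K) := Nat.finite_of_card_ne_zero (by omega)
  have hcentA : ∀ a ∈ A, ∀ c ∈ τ.ker, a * c = c * a := fun a ha c hc => ((hker c).1 hc a ha).symm
  have hAC : A ≤ τ.ker := fun a ha => (hker a).2 fun b hb => hAc a ha b hb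
  set m := Module.finrank K V with hmdef
  have hV : Nat.card V = q ^ (d * m) := by
    rw [pow_mul, ← hK]; exact Module.natCard_eq_pow_finrank
  have hm0 : 0 < m := Module.finrank_pos
  have hN := card_sub_one_dvd ρ htrans
  rw [hV] at hN
  have hAdvd : Nat.card A ∣ q ^ d - 1 := by
    have := Subgroup.card_dvd_of_injective χ hχ
    rwa [Nat.card_units, hK] at this
  have hdvd_d : τ.ker.index ∣ d := by
    rw [Subgroup.index_ker, ← hAut]; exact Subgroup.card_subgroup_dvd_card _
  by_cases hm1 : m = 1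
  · refine Or.inl (semilinear_of_data ρ τ hτ hd hK ?_)
    rw [hV, hK, hm1, mul_one]
  have hm2 : 2 ≤ m := by omega
  have hqd : 2 ≤ q ^ d := hqp.two_le.trans (Nat.le_self_pow (by omega) q)
  by_cases hCA : τ.ker = A
  · exfalso
    have h1 : Nat.card G ∣ (q ^ d - 1) * d := by
      rw [← Subgroup.card_mul_index τ.ker]
      exact Nat.mul_dvd_mul (hCA ▸ hAdvd) hdvd_d
    have h2 := Nat.le_of_dvd (Nat.mul_pos (by omega) hd) (hN.trans h1)
    have h3 : q ^ d * q ^ d ≤ q ^ (d * m) := by
      rw [← pow_add]; exact Nat.pow_le_pow_right hqp.pos (by nlinarith)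
    have h4 : d < q ^ d := Nat.lt_pow_self hqp.one_lt
    obtain ⟨x, hx⟩ : ∃ x, q ^ d = x + 1 := ⟨q ^ d - 1, by omega⟩
    rw [hx] at h2 h3 h4
    rw [Nat.add_sub_cancel] at h2
    have h6 : x * d ≤ x * x := Nat.mul_le_mul_left _ (by omega)
    have h5 : (x + 1) * (x + 1) = x * x + 2 * x + 1 := by ring
    omega
  obtain ⟨B, hBn, hAB, hBC, hB', hBcent⟩ := exists_class_two hsol A τ.ker hAC hcentA hmax
  haveI := hBn
  -- the pairing on `B/A`
  let A' : Subgroup B := A.subgroupOf B
  have hcomm' : commutator B ≤ A' := by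
    rw [commutator_def, Subgroup.commutator_le]
    intro x _ y _
    exact hB' x x.2 y y.2
  haveI : IsMulCommutative (B ⧸ A') := ⟨⟨fun a b => by
    obtain ⟨x, rfl⟩ := QuotientGroup.mk'_surjective A' a
    obtain ⟨y, rfl⟩ := QuotientGroup.mk'_surjective A' b
    rw [← commutatorElement_eq_one_iff_mul_comm, ← map_commutatorElement]
    exact (QuotientGroup.eq_one_iff _).2 (hcomm' (Subgroup.commutator_mem_commutator trivial trivial))⟩⟩
  letI : CommGroup (B ⧸ A') :=
    { (inferInstance : Group (B ⧸ A')) with mul_comm := fun a b => IsMulCommutative.is_comm.comm a b }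
  have hcA : ∀ a ∈ A, ∀ b ∈ B, a * b = b * a := fun a ha b hb => hcentA a ha b (hBC hb)
  have hmulr : ∀ x y z : B, ⁅(x : G), ((y * z : B) : G)⁆ = ⁅(x : G), (y : G)⁆ * ⁅(x : G), (z : G)⁆ := by
    intro x y z
    have h1 : ⁅(x : G), (y : G) * z⁆ = ⁅(x : G), (y : G)⁆ * ((y : G) * ⁅(x : G), (z : G)⁆ * (y : G)⁻¹) := by
      simp only [commutatorElement_def]; group
    show ⁅(x : G), (y : G) * z⁆ = _
    rw [h1, ← hcA _ (hB' x x.2 z z.2) y y.2, mul_inv_cancel_right]
  have hmull : ∀ x y z : B, ⁅((x * y : B) : G), (z : G)⁆ = ⁅(x : G), (z : G)⁆ * ⁅(y : G), (z : G)⁆ := by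
    intro x y z
    have h1 : ⁅(x : G) * y, (z : G)⁆ = ((x : G) * ⁅(y : G), (z : G)⁆ * (x : G)⁻¹) * ⁅(x : G), (z : G)⁆ := by
      simp only [commutatorElement_def]; group
    show ⁅(x : G) * y, (z : G)⁆ = _
    rw [h1, ← hcA _ (hB' y y.2 z z.2) x x.2, mul_inv_cancel_right]
    exact hAc _ (hB' y y.2 z z.2) _ (hB' x x.2 z z.2)
  let cA : B → B → A := fun x y => ⟨⁅(x : G), (y : G)⁆, hB' x x.2 y y.2⟩
  let β : B →* B →* Kˣ := MonoidHom.mk'
    (fun x => MonoidHom.mk' (fun y => χ (cA x y)) fun y z => by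
      rw [← map_mul]; exact congrArg χ (Subtype.ext (hmulr x y z)))
    fun x y => MonoidHom.ext fun z => by
      show χ (cA (x * y) z) = χ (cA x z) * χ (cA y z)
      rw [← map_mul]; exact congrArg χ (Subtype.ext (hmull x y z))
  have hβ1 : ∀ x y : B, β x y = 1 ↔ (x : G) * y = y * x := by
    intro x y
    show χ (cA x y) = 1 ↔ _
    rw [map_eq_one_iff _ hχ, ← commutatorElement_eq_one_iff_mul_comm]
    exact ⟨fun h => congrArg Subtype.val h, fun h => Subtype.ext h⟩
  let β' : B →* (B ⧸ A' →* Kˣ) := MonoidHom.mk'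
    (fun x => QuotientGroup.lift A' (β x) fun y hy => (hβ1 x y).2 (hcA y hy x x.2).symm)
    fun x y => MonoidHom.ext fun z => by
      obtain ⟨z, rfl⟩ := QuotientGroup.mk'_surjective A' z
      show β (x * y) z = β x z * β y z
      rw [map_mul]; rfl
  let φ : B ⧸ A' →* B ⧸ A' →* Kˣ := QuotientGroup.lift A' β' fun x hx => MonoidHom.ext fun z => by
    obtain ⟨z, rfl⟩ := QuotientGroup.mk'_surjective A' z
    exact (hβ1 x z).2 (hcA x hx z z.2)
  have hφ : ∀ x y : B, φ x y = χ (cA x y) := fun _ _ => rfl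
  have halt : ∀ z, φ z z = 1 := fun z => by
    obtain ⟨z, rfl⟩ := QuotientGroup.mk'_surjective A' z
    exact (hβ1 z z).2 rfl
  have hnd : ∀ z, (∀ y, φ z y = 1) → z = 1 := fun z => by
    obtain ⟨z, rfl⟩ := QuotientGroup.mk'_surjective A' z
    intro h
    exact (QuotientGroup.eq_one_iff z).2
      (hBcent z (hBC z.2) fun b hb => (hβ1 z ⟨b, hb⟩).1 (h (QuotientGroup.mk ⟨b, hb⟩)))
  obtain ⟨a, ha⟩ := exists_sq φ halt hnd
  -- linear independence of coset representatives
  have ham : a ≤ m := by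
    have hsc : ∀ c ∈ τ.ker, ∀ (x : K) (v : V), ρ c (x • v) = x • ρ c v := fun c hc x v => by
      rw [hτ, (MonoidHom.mem_ker).1 hc]; rfl
    let T : B → (V →ₗ[K] V) := fun b =>
      { toFun := fun v => ρ b v
        map_add' := map_add _
        map_smul' := fun x v => hsc b (hBC b.2) x v }
    let rep : B ⧸ A' → B := Quotient.out
    have hindep : LinearIndependent K (fun z => T (rep z)) := by
      haveI : Fintype (B ⧸ A') := Fintype.ofFinite _
      rw [Fintype.linearIndependent_iff]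
      intro c hc z₀
      have h0 : ∀ v, ∑ z, c z • ρ (rep z : G) v = 0 := fun v => by
        have := LinearMap.congr_fun hc v
        simpa [T] using this
      by_contra hne
      obtain ⟨v₀, hv₀⟩ := exists_ne (0 : V)
      obtain ⟨f, hf⟩ := Module.Projective.exists_dual_ne_zero K
        ((LinearEquiv.map_ne_zero_iff (ρ (rep z₀ : G))).2 hv₀)
      let ψ : B ⧸ A' → (B ⧸ A' →* K) := fun z => (Units.coeHom K).comp (φ.flip z)
      have hψ : Function.Injective ψ := by
        intro z w e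
        refine (inv_mul_eq_one.1 (hnd _ fun y => ?_))
        have h1 : φ y z = φ y w := Units.ext (DFunLike.congr_fun e y)
        have h2 : φ y (z⁻¹ * w) = 1 := by rw [map_mul, map_inv, h1, inv_mul_cancel]
        have h3 := antisymm φ halt y (z⁻¹ * w)
        rwa [h2, one_mul] at h3
      have hlin := (linearIndependent_monoidHom (B ⧸ A') K).comp ψ hψ
      rw [Fintype.linearIndependent_iff] at hlin
      have hsum : ∑ z, (c z * f (ρ (rep z : G) v₀)) • ((ψ z : B ⧸ A' → K)) = 0 := by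
        funext y
        obtain ⟨y, rfl⟩ := QuotientGroup.mk'_surjective A' y
        have h1 := congrArg (fun v => f (ρ (y : G) v)) (h0 (ρ ((y : G)⁻¹) v₀))
        simp only [map_sum, map_zero] at h1
        rw [Finset.sum_apply, Pi.zero_apply, ← h1]
        refine Finset.sum_congr rfl fun z _ => ?_
        rw [hsc (y : G) (hBC y.2), map_smul, Pi.smul_apply, smul_eq_mul, smul_eq_mul]
        have h2 : ρ (y : G) (ρ (rep z : G) (ρ (y : G)⁻¹ v₀)) =
            (χ (cA y (rep z)) : K) • ρ (rep z : G) v₀ := by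
          rw [hχV]
          show _ = ρ ⁅(y : G), (rep z : G)⁆ _
          rw [← LinearEquiv.mul_apply, ← LinearEquiv.mul_apply, ← LinearEquiv.mul_apply, ← map_mul,
            ← map_mul, ← map_mul, commutatorElement_def, inv_mul_cancel_right, mul_assoc]
        rw [h2, map_smul, smul_eq_mul]
        have h3 : ψ z (QuotientGroup.mk' A' y) = (χ (cA y (rep z)) : K) := by
          rw [← hφ]
          conv_lhs => rw [← QuotientGroup.out_eq' z]
          rfl
        rw [h3]; ring
      exact hf ((mul_eq_zero.1 (hlin _ hsum z₀)).resolve_left hne)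
    haveI : Fintype (B ⧸ A') := Fintype.ofFinite _
    have h1 := hindep.fintype_card_le_finrank
    rw [← Nat.card_eq_fintype_card, Module.finrank_linearMap, ha, ← sq, ← hmdef] at h1
    exact (Nat.pow_le_pow_iff_left two_ne_zero).1 h1
  -- the action of the centraliser on `B/A`
  let θ : τ.ker →* MulAut (B ⧸ A') :=
    { toFun := fun c => QuotientGroup.congr A' A' (MulAut.conjNormal (c : G)) (by
        ext x
        constructor
        · rintro ⟨y, hy, rfl⟩
          exact hAn.conj_mem _ hy (c : G)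
        · intro hx
          refine ⟨MulAut.conjNormal (c : G)⁻¹ x, ?_, ?_⟩
          · have := hAn.conj_mem _ hx (c : G)⁻¹
            rw [inv_inv] at this
            show (((MulAut.conjNormal (c : G)⁻¹) x : B) : G) ∈ A
            rw [MulAut.conjNormal_apply, inv_inv]
            exact this
          · show MulAut.conjNormal (c : G) (MulAut.conjNormal (c : G)⁻¹ x) = x
            rw [← MulAut.mul_apply, ← map_mul, mul_inv_cancel, map_one, MulAut.one_apply])
      map_one' := MulEquiv.ext fun z => by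
        obtain ⟨z, rfl⟩ := QuotientGroup.mk'_surjective A' z
        show QuotientGroup.mk (MulAut.conjNormal ((1 : τ.ker) : G) z) = _
        rw [OneMemClass.coe_one, map_one]; rfl
      map_mul' := fun c e => MulEquiv.ext fun z => by
        obtain ⟨z, rfl⟩ := QuotientGroup.mk'_surjective A' z
        show QuotientGroup.mk (MulAut.conjNormal ((c * e : τ.ker) : G) z) = _
        rw [Subgroup.coe_mul, map_mul]; rfl }
  have hθker : θ.ker.map τ.ker.subtype ≤ B := by
    rintro _ ⟨c, hc, rfl⟩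
    have hcb : ∀ b : B, ⁅(c : G), (b : G)⁆ ∈ A := fun b => by
      have h1 : QuotientGroup.mk (MulAut.conjNormal (c : G) b) = (QuotientGroup.mk b : B ⧸ A') :=
        MulEquiv.congr_fun (MonoidHom.mem_ker.1 hc) (QuotientGroup.mk b)
      have h2 : (b : G)⁻¹ * ((c : G) * b * (c : G)⁻¹) ∈ A := by
        have h0 := (QuotientGroup.eq).1 h1.symm
        rw [Subgroup.mem_subgroupOf, Subgroup.coe_mul, Subgroup.coe_inv, MulAut.conjNormal_apply] at h0
        exact h0
      have h3 := hAn.conj_mem _ h2 (b : G)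
      rw [mul_inv_cancel_left] at h3
      rwa [commutatorElement_def]
    have hmul : ∀ x y : B, ⁅(c : G), (x : G) * y⁆ = ⁅(c : G), (x : G)⁆ * ⁅(c : G), (y : G)⁆ := by
      intro x y
      have h1 : ⁅(c : G), (x : G) * y⁆ = ⁅(c : G), (x : G)⁆ * ((x : G) * ⁅(c : G), (y : G)⁆ * (x : G)⁻¹) := by
        simp only [commutatorElement_def]; group
      rw [h1, ← hcA _ (hcb y) x x.2, mul_inv_cancel_right]
    let γ : B →* Kˣ := MonoidHom.mk' (fun b => χ ⟨_, hcb b⟩) fun x y => by
      rw [← map_mul]; exact congrArg χ (Subtype.ext (hmul x y))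
    let γ' : B ⧸ A' →* Kˣ := QuotientGroup.lift A' γ fun b hb => by
      show χ ⟨_, hcb b⟩ = 1
      rw [map_eq_one_iff _ hχ]
      exact Subtype.ext (commutatorElement_eq_one_iff_mul_comm.2 (hcentA b hb c c.2).symm)
    haveI : Finite (B ⧸ A' →* Kˣ) := Finite.of_injective _ DFunLike.coe_injective
    have hbij : Function.Bijective φ := by
      have hinj : Function.Injective φ := fun x y e => inv_mul_eq_one.1 (hnd _ fun z => by
        rw [map_mul, map_inv, e, inv_mul_cancel]; rfl)
      exact hinj.bijective_of_nat_card_le card_hom_le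
    obtain ⟨z, hz⟩ := hbij.2 γ'
    obtain ⟨y, rfl⟩ := QuotientGroup.mk'_surjective A' z
    show (c : G) ∈ B
    have h4 : (y : G)⁻¹ * c ∈ A := by
      refine hBcent _ (mul_mem (inv_mem (hBC y.2)) c.2) fun b hb => ?_
      have h5 : χ (cA y ⟨b, hb⟩) = χ ⟨_, hcb ⟨b, hb⟩⟩ := DFunLike.congr_fun hz (QuotientGroup.mk' A' (⟨b, hb⟩ : B))
      have h6 : (y : G) * b * (y : G)⁻¹ * b⁻¹ = (c : G) * b * (c : G)⁻¹ * b⁻¹ :=
        congrArg Subtype.val (hχ h5)
      have h7 : (y : G) * b * (y : G)⁻¹ = (c : G) * b * (c : G)⁻¹ := mul_right_cancel h6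
      rw [mul_assoc, mul_inv_eq_iff_eq_mul.1 h7.symm]
      group
    have := mul_mem y.2 (hAB h4)
    rwa [mul_inv_cancel_left] at this
  have hiso : θ.range ≤ isometries φ := by
    rintro _ ⟨c, rfl⟩ x y
    obtain ⟨x, rfl⟩ := QuotientGroup.mk'_surjective A' x
    obtain ⟨y, rfl⟩ := QuotientGroup.mk'_surjective A' y
    show χ (cA (MulAut.conjNormal (c : G) x) (MulAut.conjNormal (c : G) y)) = χ (cA x y)
    refine congrArg χ (Subtype.ext ?_)
    show ⁅(c : G) * x * (c : G)⁻¹, (c : G) * y * (c : G)⁻¹⁆ = ⁅(x : G), (y : G)⁆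
    have h1 : ⁅(c : G) * x * (c : G)⁻¹, (c : G) * y * (c : G)⁻¹⁆ = (c : G) * ⁅(x : G), (y : G)⁆ * (c : G)⁻¹ := by
      simp only [commutatorElement_def]; group
    rw [h1, ← hcentA _ (hB' x x.2 y y.2) c c.2, mul_inv_cancel_right]
  have hB : Nat.card B = Nat.card A * a ^ 2 := by
    rw [← ha, A'.card_eq_card_quotient_mul_card_subgroup,
      Nat.card_congr (Subgroup.subgroupOfEquivOfLe hAB).toEquiv, mul_comm]
  have hGdvd : Nat.card G ∣ Nat.card A * a ^ 2 * Nat.card θ.range * d := by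
    rw [← Subgroup.card_mul_index τ.ker]
    refine Nat.mul_dvd_mul ?_ hdvd_d
    rw [← Subgroup.card_mul_index θ.ker, Subgroup.index_ker, ← hB]
    refine Nat.mul_dvd_mul_right ?_ _
    rw [← Subgroup.card_map_of_injective τ.ker.subtype_injective]
    exact Subgroup.card_dvd_of_le hθker
  -- primes of `a` divide `|A|`
  have hpa : ∀ p : ℕ, p.Prime → p ∣ a → p ∣ Nat.card A := by
    intro p hp hpa
    haveI := Fact.mk hp
    obtain ⟨x, hx⟩ := exists_prime_orderOf_dvd_card' (G := B ⧸ A') p (ha ▸ dvd_pow hpa two_ne_zero)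
    have hx1 : x ≠ 1 := fun e => hp.ne_one (by rw [← hx, e, orderOf_one])
    obtain ⟨y, hy⟩ : ∃ y, φ x y ≠ 1 := by
      by_contra h
      push Not at h
      exact hx1 (hnd x h)
    obtain ⟨x', rfl⟩ := QuotientGroup.mk'_surjective A' x
    obtain ⟨y', rfl⟩ := QuotientGroup.mk'_surjective A' y
    have h1 : (φ (QuotientGroup.mk' A' x') (QuotientGroup.mk' A' y')) ^ p = 1 := by
      rw [← MonoidHom.pow_apply, ← map_pow, ← hx, pow_orderOf_eq_one, map_one]; rfl
    have h2 : (cA x' y') ^ p = 1 := hχ (by rw [map_pow, map_one]; exact h1)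
    have h3 : cA x' y' ≠ 1 := fun e => hy (by show χ (cA x' y') = 1; rw [e, map_one])
    exact orderOf_eq_prime h2 h3 ▸ orderOf_dvd_natCard _
  have ha2 : 2 ≤ a := by
    by_contra hlt
    have ha1 : a = 1 := by
      have : 0 < Nat.card (B ⧸ A') := Nat.card_pos
      rw [ha] at this
      rcases a with _ | _ | a
      · simp at this
      · rfl
      · omega
    have hBA : B = A := (Subgroup.eq_of_le_of_card_ge hAB (by rw [hB, ha1]; simp)).symm
    exact hCA (le_antisymm (fun c hc => hBcent c hc fun b hb => (hcentA b (hBA ▸ hb) c hc).symm) hAC)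
  -- small dimension
  by_cases hdm : d * m = 2
  · have hd1 : d = 1 := by nlinarith
    have hmm : m = 2 := by nlinarith
    subst hd1
    have ha' : a = 2 := by omega
    have hr6 : Nat.card θ.range ∣ 6 := by
      haveI : Fintype (B ⧸ A') := Fintype.ofFinite _
      let π : MulAut (B ⧸ A') →* Equiv.Perm {x : B ⧸ A' // x ≠ 1} :=
        { toFun := fun σ => σ.toEquiv.subtypeEquiv fun x => (map_ne_one_iff σ σ.injective).symm
          map_one' := Equiv.ext fun x => rfl
          map_mul' := fun σ τ => Equiv.ext fun x => rfl }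
      have hπ : Function.Injective π := fun σ τ e => MulEquiv.ext fun x => by
        by_cases hx : x = 1
        · rw [hx, map_one, map_one]
        · exact congrArg Subtype.val (Equiv.congr_fun e ⟨x, hx⟩)
      have h1 := Subgroup.card_dvd_of_injective (π.comp θ.range.subtype) (hπ.comp Subtype.val_injective)
      refine h1.trans (dvd_of_eq ?_)
      rw [Nat.card_eq_fintype_card, Fintype.card_perm, Fintype.card_subtype_compl, Fintype.card_subtype_eq,
        ← Nat.card_eq_fintype_card, ha, ha']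
      rfl
    have hA2 : 2 ∣ q ^ 1 - 1 := (hpa 2 Nat.prime_two (by rw [ha'])).trans hAdvd
    have hdvd : q ^ 2 - 1 ∣ (q - 1) * 4 * 6 := by
      have h := hN.trans hGdvd
      rw [hdm, mul_one, ha', show (2 : ℕ) ^ 2 = 4 from rfl] at h
      refine h.trans (Nat.mul_dvd_mul (Nat.mul_dvd_mul_right ?_ 4) hr6)
      simpa using hAdvd
    rw [pow_one] at hA2
    have hq24 : q + 1 ∣ 24 := by
      obtain ⟨y, rfl⟩ : ∃ y, q = y + 1 := ⟨q - 1, by have := hqp.two_le; omega⟩
      have e : (y + 1) ^ 2 - 1 = y * (y + 1 + 1) := by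
        have : (y + 1) ^ 2 = y * (y + 1 + 1) + 1 := by ring
        omega
      rw [e, Nat.add_sub_cancel, mul_assoc] at hdvd
      exact (Nat.mul_dvd_mul_iff_left (by have := hqp.two_le; omega)).1 hdvd
    have hq : q ≤ 23 := by have := Nat.le_of_dvd (by norm_num) hq24; omega
    refine Or.inr ?_
    rw [hV, hdm]
    interval_cases q <;> first | (norm_num at hq24; done) | (norm_num at hA2; done) | (norm_num at hqp; done) | norm_num
  -- Zsigmondy
  have hn2 : 2 < d * m := by
    have : 2 ≤ d * m := by nlinarith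
    omega
  have hdn : d < d * m := by nlinarith
  obtain ⟨l, hl, hlN, hlA, hld, hlm⟩ : ∃ l : ℕ, l.Prime ∧ l ∣ q ^ (d * m) - 1 ∧ ¬ l ∣ q ^ d - 1 ∧
      ¬ l ∣ d ∧ m + 1 ≤ l ∧ (l = m + 1 → d = 1) := by
    by_cases h6 : q = 2 ∧ d * m = 6
    · obtain ⟨rfl, hdm6⟩ := h6
      have hdd : d ∣ 6 := ⟨m, hdm6.symm⟩
      have := Nat.le_of_dvd (by norm_num) hdd
      interval_cases d
      · exfalso
        obtain ⟨p, hp, hpd⟩ := Nat.exists_prime_and_dvd (show a ≠ 1 by omega)
        exact hp.ne_one (Nat.dvd_one.1 ((hpa p hp hpd).trans (by simpa using hAdvd)))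
      · exact ⟨7, by norm_num, by rw [hdm6]; norm_num, by norm_num, by norm_num, by omega, by omega⟩
      · exfalso
        have ha' : a = 2 := by omega
        have h2 := (hpa 2 Nat.prime_two (by rw [ha'])).trans hAdvd
        norm_num at h2
      all_goals omega
    obtain ⟨l, hl, hord⟩ := CfsgLib.Zsigmondy.exists_ppd hqp.one_lt (by omega : 1 < d * m) h6
      (fun h => by omega)
    haveI := Fact.mk hl
    have hiff : ∀ k, l ∣ q ^ k - 1 ↔ d * m ∣ k := by
      intro k
      rw [← hord, orderOf_dvd_iff_pow_eq_one, ← Nat.modEq_iff_dvd' (Nat.one_le_pow _ _ hqp.pos),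
        ← ZMod.natCast_eq_natCast_iff]
      push_cast
      exact ⟨fun h => h.symm, fun h => h.symm⟩
    have hlt : d * m ∣ l - 1 := by
      rw [← hord]
      refine ZMod.orderOf_dvd_card_sub_one fun h => ?_
      rw [h, orderOf_zero] at hord
      omega
    have hl1 := Nat.le_of_dvd (by have := hl.two_le; omega) hlt
    have hmle : m ≤ d * m := Nat.le_mul_of_pos_left m hd
    refine ⟨l, hl, (hiff _).2 dvd_rfl, fun h => ?_, fun h => ?_, by omega, fun h => ?_⟩
    · have := Nat.le_of_dvd hd ((hiff d).1 h); omega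
    · have := Nat.le_of_dvd hd h; omega
    · have h1 : d * m ≤ 1 * m := by omega
      have := Nat.le_of_mul_le_mul_right h1 hm0
      omega
  obtain ⟨hlm, hld1⟩ := hlm
  haveI := Fact.mk hl
  have hlA' : ¬ l ∣ Nat.card A := fun h => hlA (h.trans hAdvd)
  have hla : ¬ l ∣ a := fun h => hlA' (hpa l hl h)
  have hlX : ¬ l ∣ Nat.card (B ⧸ A') := fun h => hla (hl.dvd_of_dvd_pow (ha ▸ h))
  have hlθ : l ∣ Nat.card θ.range := by
    rcases hl.dvd_mul.1 (hlN.trans (hN.trans hGdvd)) with h | h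
    · rcases hl.dvd_mul.1 h with h | h
      · rcases hl.dvd_mul.1 h with h | h
        · exact absurd h hlA'
        · exact absurd (hl.dvd_of_dvd_pow h) hla
      · exact h
    · exact absurd h hld
  obtain ⟨σ, hσ⟩ := exists_prime_orderOf_dvd_card' l hlθ
  have hσ1 : (σ : MulAut (B ⧸ A')) ≠ 1 := fun e => hl.ne_one (by
    rw [← hσ, ← Subgroup.orderOf_coe, e, orderOf_one])
  have hσl : (σ : MulAut (B ⧸ A')) ^ l = 1 := by rw [← hσ, ← Subgroup.orderOf_coe]; exact pow_orderOf_eq_one _
  have hle := (prime_le φ halt hnd _ (hiso σ.2) hlX hσl hσ1 ha).1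
  have hlm' : l = m + 1 := by omega
  have ham' : a = m := by omega
  have hd1 := hld1 hlm'
  subst hd1
  obtain ⟨w, hw⟩ := eq_two_pow φ halt hnd _ (hiso σ.2) hlX hσl hσ1 ha (by omega)
  have hnsq := not_sq_dvd φ halt hnd hlX ha ha2 (by omega : l = a + 1) θ.range hiso
  rw [one_mul] at hV hN hn2
  -- `q ^ (m / 2) + 1 = 2 (m + 1)`
  obtain ⟨v, rfl⟩ : ∃ v, w = v + 2 := by
    rcases w with _ | _ | w
    · simp at hw; omega
    · simp at hw; omega
    · exact ⟨w, rfl⟩
  set h := 2 ^ (v + 1) with hh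
  have hm' : m = 2 * h := by
    rw [hh, ← pow_succ']
    show m = 2 ^ (v + 2)
    omega
  have hh2 : 2 ≤ h := Nat.le_self_pow (by omega) 2
  have hA2 : 2 ∣ q ^ 1 - 1 := (hpa 2 Nat.prime_two (by rw [hw]; exact dvd_pow_self 2 (by omega))).trans hAdvd
  have hqodd : Odd q := hqp.odd_of_ne_two fun e => by rw [e] at hA2; norm_num at hA2
  set y := q ^ h + 1 with hy
  have hy2 : y % 4 = 2 := by
    obtain ⟨j, hj⟩ := hqodd.pow (n := 2 ^ v)
    have e : q ^ h = (q ^ 2 ^ v) ^ 2 := by rw [← pow_mul, hh, pow_succ]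
    rw [hy, e, hj, show (2 * j + 1) ^ 2 = 4 * (j * j + j) + 1 by ring]
    omega
  obtain ⟨z, hz⟩ : ∃ z, y = 2 * z := ⟨y / 2, by omega⟩
  have hzodd : Odd z := by rw [Nat.odd_iff]; omega
  have hyN : y ∣ q ^ m - 1 := by
    refine ⟨q ^ h - 1, ?_⟩
    rw [hy, hm', pow_mul', ← Nat.sq_sub_sq, one_pow]
  have hzG : z ∣ Nat.card A * a ^ 2 * Nat.card θ.range * 1 :=
    (Dvd.intro_left 2 hz.symm).trans (hyN.trans (hN.trans hGdvd))
  -- every prime divisor of `z` is `l`
  have hzp : ∀ p, p.Prime → p ∣ z → p = l := by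
    intro p hp hpz
    haveI := Fact.mk hp
    have hp2 : p ≠ 2 := fun e => by subst e; exact (Nat.not_even_iff_odd.2 hzodd) (even_iff_two_dvd.2 hpz)
    have h1 : ((q : ZMod p)) ^ h = -1 := by
      rw [eq_neg_iff_add_eq_zero]
      have h0 : ((q ^ h + 1 : ℕ) : ZMod p) = 0 :=
        (ZMod.natCast_eq_zero_iff _ _).2 (hpz.trans (Dvd.intro_left 2 hz.symm))
      exact_mod_cast h0
    have hne : (-1 : ZMod p) ≠ 1 := fun e => by
      have h0 : ((2 : ℕ) : ZMod p) = 0 := by push_cast; linear_combination -e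
      rw [ZMod.natCast_eq_zero_iff] at h0
      exact hp2 ((Nat.prime_dvd_prime_iff_eq hp Nat.prime_two).1 h0)
    have hord : orderOf (q : ZMod p) = m := by
      rw [hm', hh, ← pow_succ']
      refine orderOf_eq_prime_pow ?_ ?_
      · rw [← hh, h1]; exact hne
      · rw [pow_succ, pow_mul, ← hh, h1]; ring
    have hp1 : m ∣ p - 1 := by
      rw [← hord]
      refine ZMod.orderOf_dvd_card_sub_one fun e => ?_
      rw [e, zero_pow (by omega)] at h1
      exact one_ne_zero (neg_eq_zero.1 h1.symm)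
    have hpm : m + 1 ≤ p := by
      have := Nat.le_of_dvd (by have := hp.two_le; omega) hp1; omega
    have hpA : ¬ p ∣ Nat.card A := fun e => by
      have h2 := e.trans hAdvd
      rw [pow_one] at h2
      have h3 : ((q - 1 : ℕ) : ZMod p) = 0 := (ZMod.natCast_eq_zero_iff _ _).2 h2
      rw [Nat.cast_sub hqp.one_le, sub_eq_zero, Nat.cast_one] at h3
      rw [h3, one_pow] at h1
      exact hne h1.symm
    have hpX : ¬ p ∣ a := fun e => hpA (hpa p hp e)
    have hpθ : p ∣ Nat.card θ.range := by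
      have h2 := hpz.trans hzG
      rw [mul_one] at h2
      rcases hp.dvd_mul.1 h2 with h | h
      · rcases hp.dvd_mul.1 h with h | h
        · exact absurd h hpA
        · exact absurd (hp.dvd_of_dvd_pow h) hpX
      · exact h
    obtain ⟨σ', hσ'⟩ := exists_prime_orderOf_dvd_card' p hpθ
    have := (prime_le φ halt hnd _ (hiso σ'.2) (fun e => hpX (hp.dvd_of_dvd_pow (ha ▸ e)))
      (by rw [← hσ', ← Subgroup.orderOf_coe]; exact pow_orderOf_eq_one _)
      (fun e => hp.ne_one (by rw [← hσ', ← Subgroup.orderOf_coe, e, orderOf_one])) ha).1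
    omega
  obtain ⟨b, hb⟩ : ∃ b, z = l ^ b :=
    ⟨_, Nat.eq_prime_pow_of_unique_prime_dvd (by omega) (fun {p} hp hpz => hzp p hp hpz)⟩
  have hzl : z ≤ l := by
    rcases b with _ | _ | b
    · rw [hb, pow_zero]; exact hl.one_le
    · rw [hb, pow_one]
    · exfalso
      refine hnsq ?_
      have h2 : l ^ 2 ∣ z := hb ▸ pow_dvd_pow l (by omega)
      refine Nat.Coprime.dvd_of_dvd_mul_left (k := l ^ 2) (m := Nat.card A * a ^ 2) ?_
        (by simpa using h2.trans hzG)
      exact Nat.Coprime.pow_left 2 (Nat.Coprime.mul_right (hl.coprime_iff_not_dvd.2 hlA')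
        (Nat.Coprime.pow_right 2 (hl.coprime_iff_not_dvd.2 hla)))
  have hh' : h = 2 := two_pow_eq_of_sq_eq hh2 (by
    have : 3 ^ h ≤ q ^ h := Nat.pow_le_pow_left (by
      have := hqp.two_le
      rcases hqodd with ⟨j, rfl⟩
      omega) h
    omega)
  rw [hh'] at hy
  have hq3 : q = 3 := by
    have hq9 : q ^ 2 ≤ 9 := by omega
    have : q ≤ 3 := by nlinarith
    have := hqp.two_le
    rcases hqodd with ⟨j, rfl⟩
    omega
  refine Or.inr ?_
  rw [hV, hq3, hm', hh']
  norm_num

end CfsgLib.RegLinear
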