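import Mathlib

/-!
# Transitive linear groups: the field generated by an abelian normal subgroup

* `isUnit_of_transitive`: a commutative ring of endomorphisms invariant under a group transitive on
  the non-zero vectors is a field.
* `exists_field_data`: the field attached to an abelian normal subgroup of a transitive linear group.
* `semilinear_of_data`: if the space is a line over that field, the group is semilinear.
-/

set_option autoImplicit false

namespace CfsgLib.RegLinear

theorem injective_of_transitive {V : Type*} [AddCommGroup V] [Finite V] (K : Subring (AddMonoid.End V))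
    (hK : ∀ x ∈ K, ∀ y ∈ K, x * y = y * x)
    (T : Set (V ≃+ V)) (htrans : ∀ v w : V, v ≠ 0 → w ≠ 0 → ∃ t ∈ T, t v = w)
    (hT : ∀ t ∈ T, ∀ x ∈ K, ∃ y ∈ K, ∀ v, y (t v) = t (x v))
    {x : AddMonoid.End V} (hx : x ∈ K) {v : V} (hv : v ≠ 0) (hxv : x v = 0) : x = 0 := by
  let W : V → Set V := fun u => Set.range fun y : K => (y : AddMonoid.End V) u
  have hmem : ∀ u, u ∈ W u := fun u => ⟨1, rfl⟩
  have hle : ∀ u w : V, u ≠ 0 → w ≠ 0 → (W u).ncard ≤ (W w).ncard := by
    intro u w hu hw
    obtain ⟨t, ht, rfl⟩ := htrans u w hu hw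
    refine (Set.ncard_image_of_injective (W u) t.injective).symm.le.trans
      (Set.ncard_le_ncard ?_ (Set.toFinite _))
    rintro _ ⟨_, ⟨y, rfl⟩, rfl⟩
    obtain ⟨z, hz, hzt⟩ := hT t ht y y.2
    exact ⟨⟨z, hz⟩, hzt u⟩
  have heq : ∀ u w : V, u ≠ 0 → w ∈ W u → w ≠ 0 → W w = W u := by
    rintro u _ hu ⟨y, rfl⟩ hw
    refine Set.eq_of_subset_of_ncard_le ?_ (hle _ _ hu hw) (Set.toFinite _)
    rintro _ ⟨z, rfl⟩
    exact ⟨z * y, rfl⟩
  refine AddMonoidHom.ext fun w => ?_
  by_contra hxw
  have hxw' : x w ≠ 0 := hxw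
  have hw : w ≠ 0 := fun e => hxw' (by rw [e]; exact map_zero x)
  have hx' : x (v + w) = x w := by rw [map_add, hxv, zero_add]
  have hvw : v + w ≠ 0 := fun e => hxw' (by rw [← hx', e]; exact map_zero x)
  have h1 : W (x w) = W w := heq w _ hw ⟨⟨x, hx⟩, rfl⟩ hxw'
  have h2 : W (x w) = W (v + w) := heq (v + w) _ hvw ⟨⟨x, hx⟩, hx'⟩ hxw'
  have h3 : v + w ∈ W w := by rw [← h1, h2]; exact hmem _
  obtain ⟨y, hy⟩ := h3
  have hv' : v ∈ W w := ⟨y - 1, by
    show (y : AddMonoid.End V) w - w = v
    rw [show (y : AddMonoid.End V) w = v + w from hy, add_sub_cancel_right]⟩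
  obtain ⟨z, hz⟩ : w ∈ W v := by rw [heq w v hw hv' hv]; exact hmem _
  apply hxw'
  rw [← show (z : AddMonoid.End V) v = w from hz]
  show (x * (z : AddMonoid.End V)) v = 0
  rw [hK x hx z z.2]
  show (z : AddMonoid.End V) (x v) = 0
  rw [hxv]
  exact map_zero _

theorem card_ringAut {K : Type*} [Field K] [Finite K] {q d : ℕ} [Fact q.Prime] [CharP K q]
    (hd : Nat.card K = q ^ d) : Nat.card (K ≃+* K) = d := by
  letI := ZMod.algebra K q
  let e : (K ≃+* K) ≃ (K ≃ₐ[ZMod q] K) :=
    { toFun := fun σ => AlgEquiv.ofRingEquiv (f := σ) (fun a => RingHom.congr_fun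
        (Subsingleton.elim ((σ : K →+* K).comp (algebraMap (ZMod q) K)) (algebraMap (ZMod q) K)) a)
      invFun := fun σ => σ.toRingEquiv
      left_inv := fun σ => by ext x; rfl
      right_inv := fun σ => by ext x; rfl }
  rw [Nat.card_congr e, IsGalois.card_aut_eq_finrank]
  refine Nat.pow_right_injective (Fact.out : q.Prime).two_le ?_
  simp only
  rw [← hd, Module.natCard_eq_pow_finrank (K := ZMod q), Nat.card_zmod]

universe u

variable {q : ℕ} [Fact q.Prime] {V : Type u} [AddCommGroup V] [Module (ZMod q) V] [Finite V]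
  [Nontrivial V] {G : Type*} [Group G]

/-- The field attached to an abelian normal subgroup. -/
theorem exists_field_data (ρ : G →* (V ≃ₗ[ZMod q] V)) (hρ : Function.Injective ρ)
    (htrans : ∀ v w : V, v ≠ 0 → w ≠ 0 → ∃ g : G, ρ g v = w)
    (A : Subgroup G) [A.Normal] (hA : ∀ a ∈ A, ∀ b ∈ A, a * b = b * a) :
    ∃ (K : Type u) (_ : Field K) (_ : Finite K) (_ : Module K V) (χ : A →* Kˣ) (τ : G →* (K ≃+* K))
      (d : ℕ), 1 ≤ d ∧ Nat.card K = q ^ d ∧ Nat.card (K ≃+* K) = d ∧ Function.Injective χ ∧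
      (∀ (a : A) (v : V), (χ a : K) • v = ρ a v) ∧
      (∀ (g : G) (x : K) (v : V), ρ g (x • v) = τ g x • ρ g v) ∧
      (∀ g : G, τ g = 1 ↔ ∀ a ∈ A, g * a = a * g) := by
  let L : G →* AddMonoid.End V :=
    { toFun := fun g => (ρ g).toAddEquiv.toAddMonoidHom
      map_one' := by rw [map_one]; rfl
      map_mul' := fun g h => by rw [map_mul]; rfl }
  have hL : ∀ g v, L g v = ρ g v := fun g v => rfl
  have hLinj : Function.Injective L := fun g h e => hρ (LinearEquiv.ext fun v => DFunLike.congr_fun e v)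
  haveI : Finite (AddMonoid.End V) := Finite.of_injective _ DFunLike.coe_injective
  let R : Subring (AddMonoid.End V) := Subring.closure (L '' (A : Set G))
  have hRcomm : ∀ x ∈ R, ∀ y ∈ R, x * y = y * x := by
    have h1 : L '' (A : Set G) ⊆ Subring.centralizer (L '' (A : Set G)) := by
      rintro _ ⟨a, ha, rfl⟩
      rw [SetLike.mem_coe, Subring.mem_centralizer_iff]
      rintro _ ⟨b, hb, rfl⟩
      rw [← map_mul, ← map_mul, hA b hb a ha]
    have h2 : R ≤ Subring.centralizer (L '' (A : Set G)) := Subring.closure_le.2 h1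
    have h3 : R ≤ Subring.centralizer (R : Set (AddMonoid.End V)) := Subring.closure_le.2 fun z hz => by
      rw [SetLike.mem_coe, Subring.mem_centralizer_iff]
      exact fun w hw => (Subring.mem_centralizer_iff.1 (h2 hw) z hz).symm
    exact fun x hx y hy => (Subring.mem_centralizer_iff.1 (h3 hx) y hy).symm
  -- conjugation
  let cj : G → AddMonoid.End V →+* AddMonoid.End V := fun g =>
    { toFun := fun x => L g * x * L g⁻¹
      map_one' := by rw [mul_one, ← map_mul, mul_inv_cancel, map_one]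
      map_mul' := fun x y => by
        have h : L g⁻¹ * L g = 1 := by rw [← map_mul, inv_mul_cancel, map_one]
        simp only [mul_assoc]
        rw [← mul_assoc (L g⁻¹) (L g), h, one_mul]
      map_zero' := by rw [mul_zero, zero_mul]
      map_add' := fun x y => by rw [mul_add, add_mul] }
  have hcjL : ∀ g a, cj g (L a) = L (g * a * g⁻¹) := fun g a => by
    show L g * L a * L g⁻¹ = _
    rw [map_mul, map_mul]
  have hcjR : ∀ g, ∀ x ∈ R, cj g x ∈ R := by
    intro g x hx
    have hle : R ≤ R.comap (cj g) := Subring.closure_le.2 (by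
      rintro _ ⟨a, ha, rfl⟩
      show cj g (L a) ∈ R
      rw [hcjL]
      exact Subring.subset_closure ⟨_, Subgroup.Normal.conj_mem ‹A.Normal› a ha g, rfl⟩)
    exact hle hx
  have hcjmul : ∀ g h x, cj (g * h) x = cj g (cj h x) := fun g h x => by
    show L (g * h) * x * L (g * h)⁻¹ = L g * (L h * x * L h⁻¹) * L g⁻¹
    rw [mul_inv_rev, map_mul, map_mul]; simp only [mul_assoc]
  have hcjone : ∀ x, cj 1 x = x := fun x => by
    show L 1 * x * L 1⁻¹ = x
    rw [inv_one, map_one, one_mul, mul_one]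
  -- the field
  have hinj : ∀ x ∈ R, ∀ v : V, v ≠ 0 → x v = 0 → x = 0 := fun x hx v hv hxv =>
    injective_of_transitive R hRcomm (Set.range fun g => (ρ g).toAddEquiv)
      (fun a b ha hb => by
        obtain ⟨g, hg⟩ := htrans a b ha hb
        exact ⟨_, ⟨g, rfl⟩, hg⟩)
      (by
        rintro _ ⟨g, rfl⟩ y hy
        refine ⟨cj g y, hcjR g y hy, fun w => ?_⟩
        show ρ g (y (ρ g⁻¹ (ρ g w))) = ρ g (y w)
        rw [show ρ g⁻¹ (ρ g w) = w from (LinearEquiv.congr_fun (map_mul ρ g⁻¹ g).symm w).trans (by simp)])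
      hx hv hxv
  letI : CommRing R := { (inferInstance : Ring R) with mul_comm := fun a b => Subtype.ext (hRcomm _ a.2 _ b.2) }
  obtain ⟨v₀, hv₀⟩ := exists_ne (0 : V)
  haveI : Nontrivial R := ⟨⟨1, 0, fun e => hv₀ (DFunLike.congr_fun (congrArg Subtype.val e) v₀)⟩⟩
  haveI : NoZeroDivisors R := ⟨fun {a b} h => by
    by_cases hb : b = 0
    · exact Or.inr hb
    · obtain ⟨v, hv⟩ : ∃ v, (b : AddMonoid.End V) v ≠ 0 := by
        by_contra hh
        push Not at hh
        exact hb (Subtype.ext (AddMonoidHom.ext hh))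
      exact Or.inl (Subtype.ext (hinj a a.2 _ hv (DFunLike.congr_fun (congrArg Subtype.val h) v)))⟩
  haveI : IsDomain R := NoZeroDivisors.to_isDomain R
  letI : Fintype R := Fintype.ofFinite R
  letI fR : Field R := (Finite.isField_of_domain R).toField
  letI mR : Module R V :=
    { smul := fun x v => (x : AddMonoid.End V) v
      one_smul := fun v => rfl
      mul_smul := fun x y v => rfl
      smul_zero := fun x => map_zero _
      smul_add := fun x v w => map_add _ _ _
      add_smul := fun x y v => rfl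
      zero_smul := fun v => rfl }
  haveI hchar : CharP R q := by
    refine (CharP.charP_iff_prime_eq_zero (Fact.out : q.Prime)).2 ?_
    refine Subtype.ext (AddMonoidHom.ext fun v => ?_)
    rw [show (((q : R) : R) : AddMonoid.End V) = (q : AddMonoid.End V) from map_natCast R.subtype q]
    show ((q : AddMonoid.End V)) v = 0
    rw [AddMonoid.End.natCast_apply]
    exact ZModModule.char_nsmul_eq_zero q v
  obtain ⟨⟨d, hd⟩, -, hcard⟩ := FiniteField.card R q
  have hcard' : Nat.card R = q ^ d := by rw [Nat.card_eq_fintype_card]; exact hcard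
  let χ : A →* Rˣ :=
    ((L.comp A.subtype).codRestrict R.toSubmonoid fun a => Subring.subset_closure ⟨a, a.2, rfl⟩).toHomUnits
  have hχ : ∀ a : A, ((χ a : R) : AddMonoid.End V) = L a := fun a => rfl
  let τ : G →* (R ≃+* R) :=
    { toFun := fun g =>
        { toFun := fun x => ⟨cj g x, hcjR g x x.2⟩
          invFun := fun x => ⟨cj g⁻¹ x, hcjR g⁻¹ x x.2⟩
          left_inv := fun x => Subtype.ext (by
            show cj g⁻¹ (cj g x) = x
            rw [← hcjmul, inv_mul_cancel, hcjone])
          right_inv := fun x => Subtype.ext (by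
            show cj g (cj g⁻¹ x) = x
            rw [← hcjmul, mul_inv_cancel, hcjone])
          map_mul' := fun x y => Subtype.ext (map_mul (cj g) _ _)
          map_add' := fun x y => Subtype.ext (map_add (cj g) _ _) }
      map_one' := RingEquiv.ext fun x => Subtype.ext (hcjone x)
      map_mul' := fun g h => RingEquiv.ext fun x => Subtype.ext (hcjmul g h x) }
  refine ⟨R, fR, inferInstance, mR, χ, τ, d, hd, hcard', card_ringAut hcard', fun a b e => ?_,
    fun a v => rfl, fun g x v => ?_, fun g => ⟨fun h a ha => ?_, fun h => ?_⟩⟩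
  · exact Subtype.ext (hLinj (congrArg Subtype.val (congrArg Units.val e)))
  · show ρ g ((x : AddMonoid.End V) v) = ρ g ((x : AddMonoid.End V) (ρ g⁻¹ (ρ g v)))
    rw [show ρ g⁻¹ (ρ g v) = v from (LinearEquiv.congr_fun (map_mul ρ g⁻¹ g).symm v).trans (by simp)]
  · have h1 : cj g (L a) = L a :=
      congrArg Subtype.val (RingEquiv.congr_fun h ⟨L a, Subring.subset_closure ⟨a, ha, rfl⟩⟩)
    rw [hcjL] at h1
    exact mul_inv_eq_iff_eq_mul.1 (hLinj h1)
  · refine RingEquiv.ext fun x => Subtype.ext ?_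
    show cj g x = x
    have hle : R ≤ (cj g).eqLocus (RingHom.id _) := Subring.closure_le.2 (by
      rintro _ ⟨a, ha, rfl⟩
      show cj g (L a) = L a
      rw [hcjL, h a ha, mul_inv_cancel_right])
    exact hle x.2

/-- A one-dimensional space gives a semilinear group. -/
theorem semilinear_of_data (ρ : G →* (V ≃ₗ[ZMod q] V)) {K : Type u} [Field K] [Finite K] [Module K V]
    (τ : G →* (K ≃+* K)) (hτ : ∀ (g : G) (x : K) (v : V), ρ g (x • v) = τ g x • ρ g v)
    {d : ℕ} (hd : 1 ≤ d) (hK : Nat.card K = q ^ d) (h1 : Nat.card V = Nat.card K) :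
    ∃ (F : Type) (_ : Field F) (_ : Fintype F) (e : V ≃+ F),
      ∀ g : G, ∃ (a : F) (σ : F ≃+* F), ∀ v : V, e (ρ g v) = a * σ (e v) := by
  haveI : Fintype K := Fintype.ofFinite K
  haveI : Fintype (GaloisField q d) := Fintype.ofFinite _
  let f : K ≃+* GaloisField q d := FiniteField.ringEquivOfCardEq (K := K) (K' := GaloisField q d) (by
    rw [← Nat.card_eq_fintype_card, ← Nat.card_eq_fintype_card, hK, GaloisField.card q d (by omega)])
  obtain ⟨v₀, hv₀⟩ := exists_ne (0 : V)
  have hbij : Function.Bijective (fun x : K => x • v₀) :=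
    (Nat.bijective_iff_injective_and_card _).2 ⟨smul_left_injective K hv₀, h1.symm⟩
  let e₀ : K ≃+ V := AddEquiv.ofBijective (AddMonoidHom.mk' (fun x : K => x • v₀) fun a b => add_smul a b v₀) hbij
  refine ⟨GaloisField q d, inferInstance, inferInstance, e₀.symm.trans f.toAddEquiv, fun g =>
    ⟨f (e₀.symm (ρ g v₀)), f.symm.trans ((τ g).trans f), fun v => ?_⟩⟩
  show f (e₀.symm (ρ g v)) = f (e₀.symm (ρ g v₀)) * f (τ g (f.symm (f (e₀.symm v))))
  rw [f.symm_apply_apply, ← map_mul]
  congr 1
  rw [AddEquiv.symm_apply_eq]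
  show ρ g v = (e₀.symm (ρ g v₀) * τ g (e₀.symm v)) • v₀
  obtain ⟨x, rfl⟩ := e₀.surjective v
  rw [e₀.symm_apply_apply, mul_comm, mul_smul, show e₀ x = x • v₀ from rfl, hτ]
  congr 1
  exact (e₀.apply_symm_apply _).symm

end CfsgLib.RegLinear
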