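import Mathlib
import Cfsg.Prelude.Def_Solvable
import Cfsg.Prelude.Def_Transfer
import Cfsg.Agent.RegularLinear.Field
import Cfsg.Agent.FrobComp.SylowStructure
import Cfsg.Agent.TwoGroupsQ.UniqueInvolution
import Cfsg.Agent.TwoGroups.NoIndexTwo
import Cfsg.Agent.TwoGroups.TransferPow
import Cfsg.Agent.Solvable.Fitting
import Cfsg.Agent.NilpotentCover.Basic

/-!
# Regular linear groups: basic lemmas
-/

set_option autoImplicit false

namespace CfsgLib.RegLinear

open scoped commutatorElement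

universe u

variable {G : Type*} [Group G]

theorem exists_normal_index_two {H : Subgroup G} (h : H.index = 2) :
    ∃ N : Subgroup G, N.Normal ∧ N.index = 2 :=
  ⟨H, Subgroup.normal_of_index_eq_two h, h⟩

variable [Finite G]

theorem exists_index_two_of_cyclic_sylow (T : Sylow 2 G) [IsCyclic T] (heven : 2 ∣ Nat.card G) :
    ∃ N : Subgroup G, N.Normal ∧ N.index = 2 := by
  haveI : Fact (Nat.Prime 2) := ⟨Nat.prime_two⟩
  have hmin : (Nat.card G).minFac = 2 := (Nat.minFac_eq_two_iff _).2 heven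
  obtain ⟨k, hk⟩ := T.2.exists_card_eq
  have hK := IsCyclic.isComplement' (P := T) hmin inferInstance
  have hk0 : k ≠ 0 := by
    rintro rfl
    apply T.not_dvd_index
    rw [← T.1.card_mul_index, hk, pow_zero, one_mul] at heven
    exact heven
  haveI := MonoidHom.normal_ker
    (MonoidHom.transferSylow T (IsCyclic.normalizer_le_centralizer (P := T) hmin inferInstance))
  obtain ⟨H, hH⟩ := CfsgLib.TwoGroups.exists_index_two_of_index_eq_pow
    (hK.symm.index_eq_card.trans hk) hk0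
  exact exists_normal_index_two hH

theorem exists_index_two_of_commutator_le (A : Subgroup G) [IsCyclic A] (hA : commutator G ≤ A)
    (heven : 2 ∣ Nat.card G) : ∃ N : Subgroup G, N.Normal ∧ N.index = 2 := by
  haveI : Fact (Nat.Prime 2) := ⟨Nat.prime_two⟩
  let T : Sylow 2 G := default
  by_cases hle : (T : Subgroup G) ≤ A
  · haveI : IsCyclic (T : Subgroup G) :=
      isCyclic_of_injective (Subgroup.inclusion hle) (Subgroup.inclusion_injective hle)
    exact exists_index_two_of_cyclic_sylow T heven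
  · obtain ⟨g, hgT, hgA⟩ := SetLike.not_le_iff_exists.1 hle
    obtain ⟨k, hk⟩ := T.2 ⟨g, hgT⟩
    obtain ⟨H, hH⟩ := CfsgLib.TwoGroups.exists_index_two_of_notMem_commutator
      (fun h => hgA (hA h)) (k := k) (by simpa using congrArg Subtype.val hk)
    exact exists_normal_index_two hH

omit [Finite G] in
theorem commutator_le_of_cyclic_normal (A : Subgroup G) [A.Normal] [IsCyclic A]
    (hC : ∀ g : G, (∀ a ∈ A, g * a = a * g) → g ∈ A) : commutator G ≤ A := by
  let φ : G →* MulAut A := MulAut.conjNormal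
  have hcomm : ∀ σ τ : MulAut A, σ * τ = τ * σ := by
    intro σ τ
    obtain ⟨m, hm⟩ := MonoidHom.map_cyclic σ.toMonoidHom
    obtain ⟨n, hn⟩ := MonoidHom.map_cyclic τ.toMonoidHom
    refine MulEquiv.ext fun a => ?_
    show σ.toMonoidHom (τ.toMonoidHom a) = τ.toMonoidHom (σ.toMonoidHom a)
    rw [hn a, hm a, map_zpow, map_zpow, hm a, hn a, ← zpow_mul, ← zpow_mul, mul_comm]
  rw [commutator_def, Subgroup.commutator_le]
  intro g _ h _
  refine hC _ fun a ha => ?_
  have h1 : φ ⁅g, h⁆ = 1 := by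
    rw [commutatorElement_def, map_mul, map_mul, map_mul, hcomm (φ g) (φ h), map_inv, map_inv]
    rw [mul_inv_cancel_right, mul_inv_cancel]
  have h2 : ⁅g, h⁆ * a * ⁅g, h⁆⁻¹ = a := congrArg Subtype.val (MulEquiv.congr_fun h1 ⟨a, ha⟩)
  exact mul_inv_eq_iff_eq_mul.1 h2

theorem exists_cyclic_join {x y : G} (hxy : Commute x y) (hco : (orderOf x).Coprime (orderOf y)) :
    ∀ g : G, g ∈ Subgroup.zpowers (x * y) ↔
      ∃ a ∈ Subgroup.zpowers x, ∃ b ∈ Subgroup.zpowers y, g = a * b := by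
  intro g
  constructor
  · rintro ⟨i, rfl⟩
    exact ⟨x ^ i, ⟨i, rfl⟩, y ^ i, ⟨i, rfl⟩, hxy.mul_zpow i⟩
  · rintro ⟨a, ha, b, hb, rfl⟩
    have key : ∀ {x y : G}, Commute x y → (orderOf x).Coprime (orderOf y) →
        Subgroup.zpowers x ≤ Subgroup.zpowers (x * y) := by
      intro x y hxy hco
      obtain ⟨m, hm⟩ := exists_pow_eq_self_of_coprime (x := x) (n := orderOf y) hco.symm
      rw [Subgroup.zpowers_le]
      have : (x * y) ^ orderOf y = x ^ orderOf y := by
        rw [hxy.mul_pow, pow_orderOf_eq_one, mul_one]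
      have h2 : ((x * y) ^ orderOf y) ^ m ∈ Subgroup.zpowers (x * y) :=
        pow_mem (pow_mem (Subgroup.mem_zpowers (x * y)) _) _
      rwa [this, hm] at h2
    exact mul_mem (key hxy hco ha) (by rw [hxy.eq]; exact key hxy.symm hco.symm hb)

/-- The Fitting subgroup is the product of its 2-part and its part of odd order. -/
theorem fitting_split : ∃ S C : Subgroup G, S.Normal ∧ C.Normal ∧ IsPGroup 2 S ∧ Odd (Nat.card C) ∧
    S ≤ Cfsg.fittingSubgroup G ∧ C ≤ Cfsg.fittingSubgroup G ∧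
    Nat.card (Cfsg.fittingSubgroup G) = Nat.card S * Nat.card C ∧
    (∀ s ∈ S, ∀ c ∈ C, s * c = c * s) ∧
    (∀ f ∈ Cfsg.fittingSubgroup G, ∃ s ∈ S, ∃ c ∈ C, f = c * s) := by
  haveI : Fact (Nat.Prime 2) := ⟨Nat.prime_two⟩
  haveI := CfsgLib.Solvable.fittingSubgroup_normal (G := G)
  haveI hnil : Group.IsNilpotent (Cfsg.fittingSubgroup G) := CfsgLib.Solvable.fittingSubgroup_isNilpotent
  set F := Cfsg.fittingSubgroup G
  let P : Sylow 2 F := default
  haveI hPn : (P : Subgroup F).Normal := inferInstance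
  haveI hPc : (P : Subgroup F).Characteristic := P.characteristic_of_normal hPn
  have hcop : (Nat.card P).Coprime (P : Subgroup F).index := by
    obtain ⟨k, hk⟩ := P.2.exists_card_eq
    rw [hk]
    exact Nat.Coprime.pow_left k (Nat.prime_two.coprime_iff_not_dvd.2 P.not_dvd_index)
  obtain ⟨D, hD⟩ := Subgroup.exists_right_complement'_of_coprime hcop
  have hDodd : Odd (Nat.card D) := by
    rw [← Nat.not_even_iff_odd, even_iff_two_dvd, ← hD.symm.index_eq_card]
    exact P.not_dvd_index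
  have hcomm : ∀ s ∈ (P : Subgroup F), ∀ c ∈ D, s * c = c * s := by
    intro s hs c hc
    refine CfsgLib.NilpotentCover.commute_of_coprime s c ?_
    obtain ⟨k, hk⟩ := P.2.exists_card_eq
    refine Nat.Coprime.coprime_dvd_left (Subgroup.orderOf_dvd_natCard _ hs)
      (Nat.Coprime.coprime_dvd_right (Subgroup.orderOf_dvd_natCard _ hc) ?_)
    rw [hk]
    exact Nat.Coprime.pow_left k (Nat.coprime_two_left.2 hDodd)
  have hprod : ∀ f : F, ∃ s ∈ (P : Subgroup F), ∃ c ∈ D, f = c * s := by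
    intro f
    obtain ⟨⟨s, c⟩, hsc, -⟩ := hD.existsUnique f
    exact ⟨s, s.2, c, c.2, hsc.symm.trans (hcomm _ s.2 _ c.2)⟩
  -- the odd part is characteristic
  have hDmem : ∀ f : F, Odd (orderOf f) → f ∈ D := by
    intro f hf
    obtain ⟨s, hs, c, hc, rfl⟩ := hprod f
    have hsc : Commute c s := (hcomm s hs c hc).symm
    obtain ⟨k, hk⟩ := (Nat.dvd_prime_pow Nat.prime_two).1
      (P.2.exists_card_eq.choose_spec ▸ Subgroup.orderOf_dvd_natCard _ hs) |>.imp (fun _ h => h.2)
    have hco : (orderOf c).Coprime (orderOf s) := by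
      rw [hk]
      exact Nat.Coprime.pow_right k (Nat.coprime_two_right.2
        (hDodd.of_dvd_nat (Subgroup.orderOf_dvd_natCard _ hc)))
    rw [hsc.orderOf_mul_eq_mul_orderOf_of_coprime hco, Nat.odd_mul, hk] at hf
    rcases Nat.eq_zero_or_pos k with rfl | hk0
    · rw [pow_zero, orderOf_eq_one_iff] at hk
      rw [hk, mul_one]; exact hc
    · exact absurd hf.2 (Nat.not_odd_iff_even.2 (Nat.even_pow.2 ⟨even_two, hk0.ne'⟩))
  haveI hDc : D.Characteristic := by
    rw [Subgroup.characteristic_iff_map_le]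
    rintro φ _ ⟨c, hc, rfl⟩
    refine hDmem _ ?_
    rw [show orderOf (φ.toMonoidHom c) = orderOf c from orderOf_injective φ.toMonoidHom φ.injective c]
    exact hDodd.of_dvd_nat (Subgroup.orderOf_dvd_natCard _ hc)
  refine ⟨(P : Subgroup F).map F.subtype, D.map F.subtype, inferInstance, inferInstance,
    P.2.map F.subtype, ?_, Subgroup.map_subtype_le _, Subgroup.map_subtype_le _, ?_, ?_, ?_⟩
  · rwa [Subgroup.card_map_of_injective F.subtype_injective]
  · rw [Subgroup.card_map_of_injective F.subtype_injective,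
      Subgroup.card_map_of_injective F.subtype_injective, hD.card_mul]
  · rintro _ ⟨s, hs, rfl⟩ _ ⟨c, hc, rfl⟩
    exact congrArg Subtype.val (hcomm s hs c hc)
  · intro f hf
    obtain ⟨s, hs, c, hc, h⟩ := hprod ⟨f, hf⟩
    exact ⟨s, ⟨s, hs, rfl⟩, c, ⟨c, hc, rfl⟩, congrArg Subtype.val h⟩

variable {q : ℕ} [Fact q.Prime] {V : Type u} [AddCommGroup V] [Module (ZMod q) V]

/-- The action as additive endomorphisms. -/
def endHom (ρ : G →* (V ≃ₗ[ZMod q] V)) : G →* AddMonoid.End V where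
  toFun g := (ρ g).toAddEquiv.toAddMonoidHom
  map_one' := by rw [map_one]; rfl
  map_mul' g h := by rw [map_mul]; rfl

omit [Finite G] in
theorem isFree_endHom (ρ : G →* (V ≃ₗ[ZMod q] V))
    (hreg : ∀ v : V, v ≠ 0 → ∀ g : G, ρ g v = v → g = 1) : CfsgLib.FrobComp.IsFree (endHom ρ) :=
  fun g hg x hx => by_contra fun h => hg (hreg x h g hx)

omit [Finite G] in
theorem involution_unique (ρ : G →* (V ≃ₗ[ZMod q] V)) (hρ : Function.Injective ρ)
    (hreg : ∀ v : V, v ≠ 0 → ∀ g : G, ρ g v = v → g = 1) {x y : G} (hx : x ^ 2 = 1) (hx1 : x ≠ 1)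
    (hy : y ^ 2 = 1) (hy1 : y ≠ 1) : x = y := by
  have key : ∀ x : G, x ^ 2 = 1 → x ≠ 1 → ∀ v : V, ρ x v = -v := by
    intro x hx hx1 v
    by_contra h
    have h0 : ρ x v + v ≠ 0 := fun e => h (eq_neg_of_add_eq_zero_left e)
    refine hx1 (hreg _ h0 x ?_)
    rw [map_add, ← LinearEquiv.mul_apply, ← map_mul, ← sq, hx, map_one, LinearEquiv.coe_one, id_eq,
      add_comm]
  exact hρ (LinearEquiv.ext fun v => by rw [key x hx hx1, key y hy hy1])

omit [Finite G] in
theorem card_regular [Finite V] [Nontrivial V] (ρ : G →* (V ≃ₗ[ZMod q] V))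
    (htrans : ∀ v w : V, v ≠ 0 → w ≠ 0 → ∃ g : G, ρ g v = w)
    (hreg : ∀ v : V, v ≠ 0 → ∀ g : G, ρ g v = v → g = 1) : Nat.card G + 1 = Nat.card V := by
  classical
  obtain ⟨v₀, hv₀⟩ := exists_ne (0 : V)
  let f : G → {v : V // v ≠ 0} := fun g => ⟨ρ g v₀, (LinearEquiv.map_ne_zero_iff _).2 hv₀⟩
  have hf : Function.Bijective f := ⟨fun g h e => by
      have e' : ρ g v₀ = ρ h v₀ := congrArg Subtype.val e
      refine inv_mul_eq_one.1 (hreg v₀ hv₀ (g⁻¹ * h) ?_)
      rw [map_mul, LinearEquiv.mul_apply, ← e', ← LinearEquiv.mul_apply, ← map_mul, inv_mul_cancel,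
        map_one, LinearEquiv.coe_one, id_eq],
    fun v => by
      obtain ⟨g, hg⟩ := htrans v₀ v hv₀ v.2
      exact ⟨g, Subtype.ext hg⟩⟩
  rw [Nat.card_congr (Equiv.ofBijective f hf)]
  haveI : Fintype V := Fintype.ofFinite V
  rw [Nat.card_eq_fintype_card, Nat.card_eq_fintype_card, Fintype.card_subtype_compl,
    Fintype.card_subtype_eq]
  have := Fintype.card_pos (α := V)
  omega

variable [Finite V] [Nontrivial V]

/-- A regular group with a cyclic normal self-centralising subgroup. -/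
theorem main_of_cyclic (ρ : G →* (V ≃ₗ[ZMod q] V)) (hρ : Function.Injective ρ)
    (htrans : ∀ v w : V, v ≠ 0 → w ≠ 0 → ∃ g : G, ρ g v = w)
    (hreg : ∀ v : V, v ≠ 0 → ∀ g : G, ρ g v = v → g = 1)
    (A : Subgroup G) [A.Normal] [IsCyclic A] (hC : ∀ g : G, (∀ a ∈ A, g * a = a * g) → g ∈ A) :
    (∃ (F : Type) (_ : Field F) (_ : Fintype F) (e : V ≃+ F),
        ∀ g : G, ∃ (a : F) (σ : F ≃+* F), ∀ v : V, e (ρ g v) = a * σ (e v)) ∧
      (q ≠ 2 → ∃ N : Subgroup G, N.Normal ∧ N.index = 2) := by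
  have hAc : ∀ a ∈ A, ∀ b ∈ A, a * b = b * a := fun a ha b hb => by
    obtain ⟨g, hg⟩ := IsCyclic.exists_generator (α := A)
    obtain ⟨i, hi⟩ := hg ⟨a, ha⟩
    obtain ⟨j, hj⟩ := hg ⟨b, hb⟩
    exact congrArg Subtype.val
      (show (⟨a, ha⟩ : A) * ⟨b, hb⟩ = ⟨b, hb⟩ * ⟨a, ha⟩ from
        hi ▸ hj ▸ ((Commute.refl g).zpow_zpow i j).eq)
  obtain ⟨K, _, _, _, χ, τ, d, hd, hK, hAut, hχ, -, hτ, hker⟩ := exists_field_data ρ hρ htrans A hAc
  have hcard := card_regular ρ htrans hreg
  refine ⟨semilinear_of_data ρ τ hτ hd hK ?_, fun hq => ?_⟩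
  · -- the space is a line
    haveI : Fintype K := Fintype.ofFinite K
    have hker' : τ.ker = A := by
      ext g
      rw [MonoidHom.mem_ker, hker]
      exact ⟨hC g, fun hg a ha => hAc g hg a ha⟩
    have h1 : Nat.card A + 1 ≤ Nat.card K := by
      have := Nat.card_le_card_of_injective χ hχ
      rw [Nat.card_units] at this
      have : 0 < Nat.card K := Nat.card_pos
      omega
    have h2 : Nat.card G ≤ Nat.card A * d := by
      haveI : Finite (K ≃+* K) := Nat.finite_of_card_ne_zero (by omega)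
      rw [← hker', ← Subgroup.card_mul_index τ.ker, Subgroup.index_ker, ← hAut]
      exact Nat.mul_le_mul_left _ (Nat.card_le_card_of_injective _ Subtype.val_injective)
    have h3 : Nat.card V = Nat.card K ^ Module.finrank K V := Module.natCard_eq_pow_finrank
    have hm : Module.finrank K V = 1 := by
      by_contra hne
      have hm0 : Module.finrank K V ≠ 0 := fun h => by
        rw [h, pow_zero] at h3
        exact absurd h3 Finite.one_lt_card.ne'
      have h4 : Nat.card K ^ 2 ≤ Nat.card V := by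
        rw [h3]; exact Nat.pow_le_pow_right Nat.card_pos (by omega)
      have h5 : d < Nat.card K := by
        rw [hK]; exact Nat.lt_pow_self (Fact.out : q.Prime).one_lt
      nlinarith
    rw [h3, hm, pow_one]
  · refine exists_index_two_of_commutator_le A (commutator_le_of_cyclic_normal A hC) ?_
    have hodd : Odd (Nat.card V) := by
      rw [Module.natCard_eq_pow_finrank (K := ZMod q), Nat.card_zmod]
      exact ((Fact.out : q.Prime).odd_of_ne_two hq).pow
    obtain ⟨j, hj⟩ := hodd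
    exact ⟨j, by omega⟩

end CfsgLib.RegLinear
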