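import Mathlib

/-!
# Arithmetic of regular linear groups with Fitting subgroup `C × Q₈`
-/

set_option autoImplicit false

namespace CfsgLib.RegLinear

/-- The finite search. -/
def arithOk (q d m : ℕ) : Bool :=
  !(q % 2 == 1 && q != 1 && decide (1 ≤ d) && decide (2 ≤ m) && decide (q ^ d + 1 ≤ 24 * d) &&
      (q ^ (d * m) - 1) % 8 == 0 &&
      48 * d * ((q ^ d - 1) / Nat.gcd (q ^ d - 1) 1024) % (q ^ (d * m) - 1) == 0) ||
    (d == 1 && m == 2 && (q == 3 || q == 5 || q == 7 || q == 11 || q == 23))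

theorem arith_all :
    (List.range 24).all (fun q => (List.range 5).all fun d => (List.range 4).all fun m => arithOk q d m)
      = true := by
  decide +kernel

theorem arith_check {q d m : ℕ} (hq : q < 24) (hd : d < 5) (hm : m < 4)
    (h : q % 2 = 1 ∧ q ≠ 1 ∧ 1 ≤ d ∧ 2 ≤ m ∧ q ^ d + 1 ≤ 24 * d ∧ (q ^ (d * m) - 1) % 8 = 0 ∧
      48 * d * ((q ^ d - 1) / Nat.gcd (q ^ d - 1) 1024) % (q ^ (d * m) - 1) = 0) :
    d = 1 ∧ m = 2 ∧ (q = 3 ∨ q = 5 ∨ q = 7 ∨ q = 11 ∨ q = 23) := by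
  have h1 := List.all_eq_true.1 (List.all_eq_true.1 (List.all_eq_true.1 arith_all q (List.mem_range.2 hq))
    d (List.mem_range.2 hd)) m (List.mem_range.2 hm)
  simp only [arithOk, Bool.or_eq_true, Bool.not_eq_true', Bool.and_eq_false_iff, Bool.and_eq_true,
    bne_iff_ne, beq_iff_eq, beq_eq_false_iff_ne, decide_eq_false_iff_not, bne_eq_false_iff_eq] at h1
  obtain ⟨a1, a2, a3, a4, a5, a6, a7⟩ := h
  rcases h1 with h1 | h1
  · tauto
  · tauto

theorem arith_cases {q d m c : ℕ} (hq : q.Prime) (hq2 : q ≠ 2) (hd : 1 ≤ d) (hm : 2 ≤ m)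
    (hc : Odd c) (hcd : c ∣ q ^ d - 1) (h8 : 8 ∣ q ^ (d * m) - 1)
    (hN : q ^ (d * m) - 1 ∣ 48 * c * d) :
    d = 1 ∧ m = 2 ∧ (q = 3 ∨ q = 5 ∨ q = 7 ∨ q = 11 ∨ q = 23) := by
  have hq3 : 3 ≤ q := by have := hq.two_le; omega
  have hqodd : Odd q := hq.odd_of_ne_two hq2
  obtain ⟨x, hx⟩ : ∃ x, x = q ^ d := ⟨_, rfl⟩
  have hx3 : 3 ≤ x := hx ▸ hq3.trans (Nat.le_self_pow (by omega) q)
  have hxo : Odd x := hx ▸ hqodd.pow
  rw [pow_mul, ← hx] at h8 hN
  rw [← hx] at hcd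
  have hc0 : 0 < c := hc.pos
  have h2c : 2 * c ≤ x - 1 := by
    obtain ⟨j, hj⟩ := hxo
    have : c ∣ j := (Nat.Coprime.dvd_mul_left (Nat.coprime_two_right.2 hc)).1
      (by rwa [hj, Nat.add_sub_cancel] at hcd)
    have := Nat.le_of_dvd (by omega) this
    omega
  have hle : x ^ m - 1 ≤ 24 * d * (x - 1) := by
    refine (Nat.le_of_dvd (by positivity) hN).trans ?_
    calc 48 * c * d = 24 * d * (2 * c) := by ring
      _ ≤ 24 * d * (x - 1) := Nat.mul_le_mul_left _ h2c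
  obtain ⟨y, rfl⟩ : ∃ y, x = y + 1 := ⟨x - 1, by omega⟩
  simp only [Nat.add_sub_cancel] at hle hcd h2c
  have hsq : (y + 1) ^ 2 ≤ (y + 1) ^ m := Nat.pow_le_pow_right (by omega) hm
  have hy : y + 2 ≤ 24 * d := by
    refine Nat.le_of_mul_le_mul_right (c := y) ?_ (by omega)
    have h1 : (y + 1) ^ 2 - 1 = (y + 2) * y := by
      have : (y + 1) ^ 2 = (y + 2) * y + 1 := by ring
      omega
    omega
  have hd5 : d < 5 := by
    by_contra hlt
    have key : ∀ n, 5 ≤ n → 24 * n < 3 ^ n := by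
      intro n hn
      induction n, hn using Nat.le_induction with
      | base => norm_num
      | succ n hn ih => rw [pow_succ]; omega
    have h1 := key d (by omega)
    have h2 : 3 ^ d ≤ q ^ d := Nat.pow_le_pow_left hq3 d
    omega
  have hq24 : q < 24 := by
    interval_cases d
    · rw [pow_one] at hx; omega
    · by_contra h
      have : 24 ^ 2 ≤ q ^ 2 := Nat.pow_le_pow_left (by omega) _
      omega
    · by_contra h
      have : 24 ^ 3 ≤ q ^ 3 := Nat.pow_le_pow_left (by omega) _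
      omega
    · by_contra h
      have : 24 ^ 4 ≤ q ^ 4 := Nat.pow_le_pow_left (by omega) _
      omega
  have hm4 : m < 4 := by
    by_contra h
    have h4 : (y + 1) ^ 4 ≤ (y + 1) ^ m := Nat.pow_le_pow_right (by omega) (by omega)
    have h5 : (y + 1) ^ 4 = (y * y * y + 4 * y * y + 6 * y + 4) * y + 1 := by ring
    have h6 : (y * y * y + 4 * y * y + 6 * y + 4) * y ≤ 24 * d * y := by omega
    have h7 := Nat.le_of_mul_le_mul_right h6 (by omega)
    have h8 : 3 ^ d ≤ y + 1 := hx ▸ Nat.pow_le_pow_left hq3 d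
    interval_cases d <;> nlinarith
  refine arith_check hq24 hd5 hm4 ⟨Nat.odd_iff.1 hqodd, hq.ne_one, hd, hm, (by omega), ?_, ?_⟩
  · rw [pow_mul, ← hx]; exact Nat.mod_eq_zero_of_dvd h8
  · rw [pow_mul, ← hx, Nat.add_sub_cancel]
    refine Nat.mod_eq_zero_of_dvd (hN.trans ?_)
    rw [mul_right_comm 48 c d]
    refine Nat.mul_dvd_mul_left _ ?_
    have hg : Nat.gcd y 1024 ∣ y := Nat.gcd_dvd_left _ _
    have hco : c.Coprime (Nat.gcd y 1024) :=
      Nat.Coprime.coprime_dvd_right (Nat.gcd_dvd_right y 1024)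
        ((Nat.coprime_two_right.2 hc).pow_right 10)
    exact hco.dvd_of_dvd_mul_right (by rwa [Nat.div_mul_cancel hg])

end CfsgLib.RegLinear
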