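import Mathlib

/-!
# Generalised quaternion groups: automorphism facts

* `autPerm`: automorphisms of the quaternion group of order eight permute its three cyclic
  subgroups of order four, with inner automorphisms as kernel.
-/

set_option autoImplicit false

namespace CfsgLib.RegLinear

open QuaternionGroup

/-- The cyclic subgroup of order four through an element. -/
def cls : QuaternionGroup 2 → Fin 3
  | .a _ => 0
  | .xa i => if i = 0 ∨ i = 2 then 1 else 2

/-- A generator of each cyclic subgroup of order four. -/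
def rep : Fin 3 → QuaternionGroup 2
  | 0 => .a 1
  | 1 => .xa 0
  | 2 => .xa 1

theorem rep_sq : ∀ i : Fin 3, rep i * rep i ≠ 1 := by decide +kernel
theorem cls_rep : ∀ i : Fin 3, cls (rep i) = i := by decide +kernel
theorem eq_rep : ∀ y : QuaternionGroup 2, y * y ≠ 1 → y = rep (cls y) ∨ y = (rep (cls y))⁻¹ := by
  decide +kernel
theorem cls_inv : ∀ y : QuaternionGroup 2, y * y ≠ 1 → cls y⁻¹ = cls y := by decide +kernel
theorem cls_inner : ∀ (h : QuaternionGroup 2) (i : Fin 3), cls (h * rep i * h⁻¹) = i := by decide +kernel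
theorem exists_inner : ∀ y z : QuaternionGroup 2, y * y ≠ 1 → z * z ≠ 1 → cls y = 0 → cls z = 1 →
    ∃ h : QuaternionGroup 2, h * rep 0 * h⁻¹ = y ∧ h * rep 1 * h⁻¹ = z := by decide +kernel
theorem gen_rep : ∀ x : QuaternionGroup 2, ∃ (i : Fin 2) (j : Fin 4),
    x = rep 1 ^ (i : ℕ) * rep 0 ^ (j : ℕ) := by decide +kernel
theorem perm_three_sign : ∀ σ : Equiv.Perm (Fin 3), σ * σ = 1 → σ ≠ 1 → Equiv.Perm.sign σ ≠ 1 := by
  decide +kernel

theorem aut_sq_ne (ψ : MulAut (QuaternionGroup 2)) {y : QuaternionGroup 2} (hy : y * y ≠ 1) :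
    ψ y * ψ y ≠ 1 := fun h => hy (ψ.injective (by rw [map_mul, map_one]; exact h))

theorem cls_aut (ψ : MulAut (QuaternionGroup 2)) {y : QuaternionGroup 2} (hy : y * y ≠ 1) :
    cls (ψ (rep (cls y))) = cls (ψ y) := by
  rcases eq_rep y hy with h | h
  · rw [← h]
  · conv_rhs => rw [h, map_inv]
    rw [cls_inv _ (aut_sq_ne ψ (rep_sq _))]

/-- The permutation of the three cyclic subgroups of order four. -/
def autPerm : MulAut (QuaternionGroup 2) →* Equiv.Perm (Fin 3) where
  toFun ψ :=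
    { toFun := fun i => cls (ψ (rep i))
      invFun := fun i => cls (ψ⁻¹ (rep i))
      left_inv := fun i => by
        show cls (ψ⁻¹ (rep (cls (ψ (rep i))))) = i
        rw [cls_aut ψ⁻¹ (aut_sq_ne ψ (rep_sq i)), MulAut.inv_apply_self, cls_rep]
      right_inv := fun i => by
        show cls (ψ (rep (cls (ψ⁻¹ (rep i))))) = i
        rw [cls_aut ψ (aut_sq_ne ψ⁻¹ (rep_sq i)), MulAut.apply_inv_self, cls_rep] }
  map_one' := Equiv.ext fun i => cls_rep i
  map_mul' ψ ψ' := Equiv.ext fun i => by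
    show cls (ψ (ψ' (rep i))) = cls (ψ (rep (cls (ψ' (rep i)))))
    rw [cls_aut ψ (aut_sq_ne ψ' (rep_sq i))]

theorem autPerm_inner (ψ : MulAut (QuaternionGroup 2)) (h : autPerm ψ = 1) :
    ∃ k : QuaternionGroup 2, ∀ x, ψ x = k * x * k⁻¹ := by
  have h0 : cls (ψ (rep 0)) = 0 := Equiv.congr_fun h 0
  have h1 : cls (ψ (rep 1)) = 1 := Equiv.congr_fun h 1
  obtain ⟨k, hk0, hk1⟩ := exists_inner _ _ (aut_sq_ne ψ (rep_sq 0)) (aut_sq_ne ψ (rep_sq 1)) h0 h1
  refine ⟨k, fun x => ?_⟩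
  obtain ⟨i, j, rfl⟩ := gen_rep x
  rw [map_mul, map_pow, map_pow, ← hk0, ← hk1, conj_pow, conj_pow, conj_mul]

theorem autPerm_conj (h : QuaternionGroup 2) : autPerm (MulAut.conj h) = 1 :=
  Equiv.ext fun i => cls_inner h i

theorem two_ne_zero_zmod {n : ℕ} (hn : 2 ≤ n) : (2 : ZMod (2 * n)) ≠ 0 := by
  intro h
  have h' : ((2 : ℕ) : ZMod (2 * n)) = 0 := by exact_mod_cast h
  rw [ZMod.natCast_eq_zero_iff] at h'
  have := Nat.le_of_dvd two_pos h'
  omega

theorem eq_a_of_comm {n : ℕ} (hn : 2 ≤ n) (x : QuaternionGroup n) (h : x * a 1 = a 1 * x) :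
    ∃ i, x = a i := by
  rcases x with i | i
  · exact ⟨i, rfl⟩
  · exfalso
    simp only [QuaternionGroup.xa_mul_a, QuaternionGroup.a_mul_xa, QuaternionGroup.xa.injEq] at h
    refine two_ne_zero_zmod hn ?_
    linear_combination h

theorem a_mem_zpowers {n : ℕ} [NeZero n] (i : ZMod (2 * n)) :
    (a i : QuaternionGroup n) ∈ Subgroup.zpowers (a 1 : QuaternionGroup n) := by
  refine ⟨(i.val : ℤ), ?_⟩
  show (a 1 : QuaternionGroup n) ^ (i.val : ℤ) = a i
  rw [zpow_natCast, a_one_pow, ZMod.natCast_zmod_val]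

theorem mem_zpowers_of_order {n : ℕ} [NeZero n] (x : QuaternionGroup n) (h : 4 < orderOf x) :
    x ∈ Subgroup.zpowers (a 1 : QuaternionGroup n) := by
  rcases x with i | i
  · exact a_mem_zpowers i
  · rw [orderOf_xa] at h; omega

end CfsgLib.RegLinear
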