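import Cfsg.Agent.RegularLinear.Basic
import Cfsg.Agent.RegularLinear.Quaternion
import Cfsg.Agent.RegularLinear.Arith
import Cfsg.Agent.S0106

/-!
# Solvable regular linear groups

`regular_structure`: semilinear or degree `5², 7², 11², 23²`; a subgroup of index two or `SL(2,3)`,
`SL(2,3) × C₅`.
-/

set_option autoImplicit false

namespace CfsgLib.RegLinear

universe u

theorem index_two_or_sl23 {L : Type*} [Group L] [Finite L] (hL : Nat.card L = 24) (T : Subgroup L)
    (eT : T ≃* QuaternionGroup 2) :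
    (∃ N : Subgroup L, N.Normal ∧ N.index = 2) ∨
      Nonempty (L ≃* Matrix.SpecialLinearGroup (Fin 2) (ZMod 3)) := by
  haveI : Fact (Nat.Prime 2) := ⟨Nat.prime_two⟩
  have hT : Nat.card T = 8 := by
    rw [Nat.card_congr eT.toEquiv, Nat.card_eq_fintype_card, QuaternionGroup.card]
  let S : Sylow 2 L := (IsPGroup.of_card (n := 3) hT : IsPGroup 2 T).toSylow (by
    have := T.card_mul_index
    rw [hT, hL] at this
    omega)
  rcases Cfsg.Agent.S0106.result S 1 le_rfl ⟨eT⟩ with ⟨P, N, hN, hNc⟩ | ⟨H, K, hK, ⟨e⟩⟩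
  · left
    obtain ⟨k, hk⟩ := P.2.exists_card_eq
    have hk0 : k ≠ 0 := by
      rintro rfl
      apply P.not_dvd_index
      have := P.1.card_mul_index
      rw [hk, hL, pow_zero, one_mul] at this
      rw [this]; norm_num
    haveI := hN
    obtain ⟨H, hH⟩ := CfsgLib.TwoGroups.exists_index_two_of_index_eq_pow
      (hNc.symm.index_eq_card.trans hk) hk0
    exact exists_normal_index_two hH
  · right
    have h24 : Nat.card (Matrix.SpecialLinearGroup (Fin 2) (ZMod 3)) = 24 := by
      rw [Nat.card_eq_fintype_card]; rfl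
    have h1 : Nat.card (↥H ⧸ K.subgroupOf H) = 24 := (Nat.card_congr e.toEquiv).trans h24
    have h2 := (K.subgroupOf H).card_eq_card_quotient_mul_card_subgroup
    have h3 : Nat.card H ≤ 24 := hL ▸ H.card_le_card_group
    have h4 : 0 < Nat.card (K.subgroupOf H) := Nat.card_pos
    rw [h1] at h2
    have hbot : K.subgroupOf H = ⊥ := Subgroup.eq_bot_of_card_eq _ (by nlinarith)
    have htop : H = ⊤ := Subgroup.eq_top_of_card_eq H (by rw [hL]; nlinarith)
    exact ⟨Subgroup.topEquiv.symm.trans ((MulEquiv.subgroupCongr htop.symm).trans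
      ((QuotientGroup.quotientBot (G := H)).symm.trans
        ((QuotientGroup.quotientMulEquivOfEq hbot.symm).trans e)))⟩

variable {q : ℕ} [Fact q.Prime] {V : Type u} [AddCommGroup V] [Module (ZMod q) V] [Finite V]
  [Nontrivial V] {G : Type*} [Group G] [Finite G]

theorem even_card (hq : q ≠ 2) (ρ : G →* (V ≃ₗ[ZMod q] V))
    (htrans : ∀ v w : V, v ≠ 0 → w ≠ 0 → ∃ g : G, ρ g v = w)
    (hreg : ∀ v : V, v ≠ 0 → ∀ g : G, ρ g v = v → g = 1) : 2 ∣ Nat.card G := by
  have h1 := card_regular ρ htrans hreg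
  rw [Module.natCard_eq_pow_finrank (K := ZMod q) (V := V), Nat.card_zmod] at h1
  obtain ⟨j, hj⟩ := ((Fact.out : q.Prime).odd_of_ne_two hq).pow (n := Module.finrank (ZMod q) V)
  exact ⟨j, by omega⟩

/-- The conclusion of the theorem. -/
def Concl (ρ : G →* (V ≃ₗ[ZMod q] V)) : Prop :=
  ((∃ (F : Type) (_ : Field F) (_ : Fintype F) (e : V ≃+ F),
      ∀ g : G, ∃ (a : F) (σ : F ≃+* F), ∀ v : V, e (ρ g v) = a * σ (e v)) ∨
    Nat.card V ∈ ({25, 49, 121, 529} : Set ℕ)) ∧
  (q ≠ 2 → (∃ N : Subgroup G, N.Normal ∧ N.index = 2) ∨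
    (Nat.card V = 25 ∧ Nonempty (G ≃* Matrix.SpecialLinearGroup (Fin 2) (ZMod 3))) ∨
    (Nat.card V = 121 ∧ Nonempty (G ≃* Matrix.SpecialLinearGroup (Fin 2) (ZMod 3) × Multiplicative (ZMod 5))))

theorem concl_of_cyclic (ρ : G →* (V ≃ₗ[ZMod q] V)) (hρ : Function.Injective ρ)
    (htrans : ∀ v w : V, v ≠ 0 → w ≠ 0 → ∃ g : G, ρ g v = w)
    (hreg : ∀ v : V, v ≠ 0 → ∀ g : G, ρ g v = v → g = 1)
    (A : Subgroup G) [A.Normal] [IsCyclic A] (hC : ∀ g : G, (∀ a ∈ A, g * a = a * g) → g ∈ A) :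
    Concl ρ :=
  have h := main_of_cyclic ρ hρ htrans hreg A hC
  ⟨Or.inl h.1, fun hq => Or.inl (h.2 hq)⟩

/-- Solvable regular linear groups. -/
theorem regular_structure (hsol : Group.IsSolvable G) (ρ : G →* (V ≃ₗ[ZMod q] V))
    (hρ : Function.Injective ρ) (htrans : ∀ v w : V, v ≠ 0 → w ≠ 0 → ∃ g : G, ρ g v = w)
    (hreg : ∀ v : V, v ≠ 0 → ∀ g : G, ρ g v = v → g = 1) : Concl ρ := by
  classical
  haveI : Fact (Nat.Prime 2) := ⟨Nat.prime_two⟩
  haveI := hsol
  haveI := CfsgLib.Solvable.fittingSubgroup_normal (G := G)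
  haveI hnil : Group.IsNilpotent (Cfsg.fittingSubgroup G) := CfsgLib.Solvable.fittingSubgroup_isNilpotent
  have hfree := isFree_endHom ρ hreg
  obtain ⟨S, C, hSn, hCn, hS, hCodd, hSF, hCF, hFcard, hSC, hprod⟩ := fitting_split (G := G)
  haveI := hSn
  haveI := hCn
  set F := Cfsg.fittingSubgroup G with hF
  have hCFF : ∀ g : G, (∀ f ∈ F, g * f = f * g) → g ∈ F := fun g hg =>
    CfsgLib.Solvable.centralizer_fittingSubgroup_le
      (Subgroup.mem_centralizer_iff.2 fun f hf => (hg f hf).symm)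
  -- the odd part is cyclic
  haveI hCcyc : IsCyclic C := by
    haveI : Group.IsNilpotent C :=
      Group.nilpotent_of_mulEquiv (Subgroup.subgroupOfEquivOfLe hCF)
    haveI : IsZGroup C := ⟨fun p hp P => by
      haveI := Fact.mk hp
      by_cases hp2 : p = 2
      · subst hp2
        haveI : Subsingleton P := by
          obtain ⟨k, hk⟩ := P.2.exists_card_eq
          have := hCodd.of_dvd_nat (Subgroup.card_subgroup_dvd_card (P : Subgroup C))
          rcases Nat.eq_zero_or_pos k with rfl | hk0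
          · exact (Nat.card_eq_one_iff_unique.1 hk).1
          · rw [hk] at this
            exact absurd this (Nat.not_odd_iff_even.2 (Nat.even_pow.2 ⟨even_two, hk0.ne'⟩))
        exact isCyclic_of_subsingleton
      · haveI := CfsgLib.FrobComp.isCyclic_of_free_of_odd hfree hp2 (P.2.map C.subtype)
        exact (MulEquiv.isCyclic ((P : Subgroup C).equivMapOfInjective C.subtype C.subtype_injective)).2 inferInstance⟩
    infer_instance
  obtain ⟨c₀, hc₀⟩ := hCcyc.exists_generator
  have hCgen : C = Subgroup.zpowers (c₀ : G) := le_antisymm (fun c hc => by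
      obtain ⟨i, hi⟩ := hc₀ ⟨c, hc⟩
      exact ⟨i, by simpa using congrArg Subtype.val hi⟩) (Subgroup.zpowers_le.2 c₀.2)
  -- cyclic normal subgroups of the Fitting subgroup
  have hjoin : ∀ y ∈ S, (∀ g : G, g * y * g⁻¹ ∈ Subgroup.zpowers y) →
      (∀ s ∈ S, s * y = y * s → s ∈ Subgroup.zpowers y) → Concl ρ := by
    intro y hy hyn hyC
    set a := (c₀ : G) * y with ha
    have hco : (orderOf (c₀ : G)).Coprime (orderOf y) := by
      obtain ⟨k, hk⟩ := hS.exists_card_eq
      refine Nat.Coprime.coprime_dvd_left (Subgroup.orderOf_dvd_natCard _ c₀.2)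
        (Nat.Coprime.coprime_dvd_right (Subgroup.orderOf_dvd_natCard _ hy) ?_)
      rw [hk]
      exact Nat.Coprime.pow_right k (Nat.coprime_two_right.2 hCodd)
    have hmem := exists_cyclic_join (show Commute (c₀ : G) y from (hSC y hy c₀ c₀.2).symm) hco
    haveI hAn : (Subgroup.zpowers a).Normal := ⟨fun x hx g => by
      obtain ⟨c, hc, s, hs, rfl⟩ := (hmem x).1 hx
      rw [← hCgen] at hc
      refine (hmem _).2 ⟨g * c * g⁻¹, hCgen ▸ hCn.conj_mem c hc g, g * s * g⁻¹, ?_, conj_mul.symm⟩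
      obtain ⟨i, rfl⟩ := hs
      rw [← conj_zpow]
      exact Subgroup.zpow_mem _ (hyn g) i⟩
    have hAF : Subgroup.zpowers a ≤ F := Subgroup.zpowers_le.2 (mul_mem (hCF c₀.2) (hSF hy))
    have hinF : ∀ f ∈ F, (∀ x ∈ Subgroup.zpowers a, f * x = x * f) → f ∈ Subgroup.zpowers a := by
      intro f hf hfx
      obtain ⟨s, hs, c, hc, rfl⟩ := hprod f hf
      have hya : y ∈ Subgroup.zpowers a :=
        (hmem y).2 ⟨1, one_mem _, y, Subgroup.mem_zpowers y, (one_mul y).symm⟩
      refine (hmem _).2 ⟨c, hCgen ▸ hc, s, hyC s hs ?_, rfl⟩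
      have h1 := hfx y hya
      rw [mul_assoc, ← mul_assoc y c s, hSC y hy c hc, mul_assoc] at h1
      exact mul_left_cancel h1
    refine concl_of_cyclic ρ hρ htrans hreg (Subgroup.zpowers a) fun g hg => ?_
    -- the centraliser is nilpotent, so lies in the Fitting subgroup
    let H : Subgroup G := Subgroup.centralizer (Subgroup.zpowers a : Set G)
    haveI : H.Normal := inferInstance
    haveI := CfsgLib.Solvable.fittingSubgroup_characteristic (G := H)
    have hFH : ((Cfsg.fittingSubgroup H).map H.subtype) ≤ F := by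
      haveI : Group.IsNilpotent (Cfsg.fittingSubgroup H) := CfsgLib.Solvable.fittingSubgroup_isNilpotent
      exact CfsgLib.Solvable.le_fittingSubgroup
        (Group.nilpotent_of_mulEquiv ((Cfsg.fittingSubgroup H).equivMapOfInjective H.subtype H.subtype_injective))
    have hH : ∀ h : H, h ∈ Cfsg.fittingSubgroup H := fun h =>
      CfsgLib.Solvable.centralizer_fittingSubgroup_le (Subgroup.mem_centralizer_iff.2 fun f hf => by
        have h1 : (f : G) ∈ Subgroup.zpowers a :=
          hinF _ (hFH ⟨f, hf, rfl⟩) fun x hx => (Subgroup.mem_centralizer_iff.1 f.2 x hx).symm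
        exact Subtype.ext (Subgroup.mem_centralizer_iff.1 h.2 f h1))
    have hgH : g ∈ H := Subgroup.mem_centralizer_iff.2 fun x hx => (hg x hx).symm
    exact hinF g (hFH ⟨⟨g, hgH⟩, hH _, rfl⟩) hg
  -- the two-part
  have hu : CfsgLib.TwoGroupsQ.HasUniqueOrderP S 2 :=
    CfsgLib.TwoGroupsQ.hasUniqueOrderP_two fun x y hx hx1 hy hy1 =>
      Subtype.ext (involution_unique ρ hρ hreg (by simpa using congrArg Subtype.val hx)
        (fun e => hx1 (Subtype.ext e)) (by simpa using congrArg Subtype.val hy) (fun e => hy1 (Subtype.ext e)))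
  rcases CfsgLib.TwoGroupsQ.isCyclic_or_quaternion hS hu with hcyc | ⟨-, n, hn, ⟨e⟩⟩
  · obtain ⟨s₀, hs₀⟩ := hcyc.exists_generator
    have hgen : ∀ s ∈ S, s ∈ Subgroup.zpowers (s₀ : G) := fun s hs => by
      obtain ⟨i, hi⟩ := hs₀ ⟨s, hs⟩
      exact ⟨i, by simpa using congrArg Subtype.val hi⟩
    exact hjoin s₀ s₀.2 (fun g => hgen _ (hSn.conj_mem _ s₀.2 g)) fun s hs _ => hgen s hs
  haveI : NeZero (2 ^ n) := ⟨by positivity⟩
  have h2n : 2 ≤ 2 ^ n := Nat.le_self_pow (by omega) 2
  let y₀ : S := e.symm (QuaternionGroup.a 1)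
  have hyC : ∀ s ∈ S, s * (y₀ : G) = (y₀ : G) * s → s ∈ Subgroup.zpowers (y₀ : G) := by
    intro s hs h
    have h1 : e ⟨s, hs⟩ * QuaternionGroup.a 1 = QuaternionGroup.a 1 * e ⟨s, hs⟩ := by
      have h2 : (⟨s, hs⟩ : S) * y₀ = y₀ * ⟨s, hs⟩ := Subtype.ext h
      simpa [y₀] using congrArg e h2
    obtain ⟨i, hi⟩ := eq_a_of_comm h2n _ h1
    obtain ⟨j, hj⟩ := a_mem_zpowers (n := 2 ^ n) i
    refine ⟨j, ?_⟩
    have h3 : y₀ ^ j = (⟨s, hs⟩ : S) := e.injective (by rw [map_zpow, hi]; simpa [y₀] using hj)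
    simpa using congrArg Subtype.val h3
  have hy4 : orderOf (y₀ : G) = 2 * 2 ^ n := by
    rw [Subgroup.orderOf_coe, MulEquiv.orderOf_eq, QuaternionGroup.orderOf_a_one]
  rcases Nat.lt_or_ge 1 n with hn2 | hn1
  · -- a characteristic cyclic subgroup of index two
    refine hjoin y₀ y₀.2 (fun g => ?_) hyC
    have hgy := hSn.conj_mem _ y₀.2 g
    have h4 : 4 < orderOf (e ⟨_, hgy⟩) := by
      rw [MulEquiv.orderOf_eq, Subgroup.orderOf_mk, (SemiconjBy.orderOf_eq g
        (show SemiconjBy g (y₀ : G) (g * y₀ * g⁻¹) by simp [SemiconjBy])).symm, hy4]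
      have : 2 ^ 2 ≤ 2 ^ n := Nat.pow_le_pow_right two_pos hn2
      omega
    obtain ⟨j, hj⟩ := mem_zpowers_of_order _ h4
    refine ⟨j, ?_⟩
    have h3 : y₀ ^ j = (⟨_, hgy⟩ : S) := e.injective (by rw [map_zpow]; simpa [y₀] using hj)
    simpa using congrArg Subtype.val h3
  obtain rfl : n = 1 := by omega
  -- the case of the quaternion group of order eight
  have e' : S ≃* QuaternionGroup 2 := e
  have hS8 : Nat.card S = 8 := by
    rw [Nat.card_congr e'.toEquiv, Nat.card_eq_fintype_card, QuaternionGroup.card]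
  have hq2 : q ≠ 2 := by
    rintro rfl
    have h1 := card_regular ρ htrans hreg
    have h2 : 2 ∣ Nat.card G := dvd_trans (by rw [hS8]; norm_num) (Subgroup.card_subgroup_dvd_card S)
    rw [Module.natCard_eq_pow_finrank (K := ZMod 2) (V := V), Nat.card_zmod] at h1
    have h3 : 2 ∣ 2 ^ Module.finrank (ZMod 2) V := dvd_pow_self 2 (Module.finrank_pos (R := ZMod 2) (M := V)).ne'
    omega
  obtain ⟨K, _, _, _, χ, τ, d, hd, hK, hAut, hχ, hχV, hτ, hker⟩ :=
    exists_field_data ρ hρ htrans C (fun a ha b hb => by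
      rw [hCgen] at ha hb
      obtain ⟨i, rfl⟩ := ha; obtain ⟨j, rfl⟩ := hb
      exact ((Commute.refl _).zpow_zpow i j).eq)
  haveI : Fintype K := Fintype.ofFinite K
  haveI : Finite (K ≃+* K) := Nat.finite_of_card_ne_zero (by omega)
  have hSker : ∀ s ∈ S, τ s = 1 := fun s hs => (hker s).2 fun c hc => hSC s hs c hc
  have hV : Nat.card V = Nat.card K ^ Module.finrank K V := Module.natCard_eq_pow_finrank
  have hm : 2 ≤ Module.finrank K V := by
    by_contra hlt
    have hm0 : Module.finrank K V ≠ 0 := fun h => by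
      rw [h, pow_zero] at hV
      exact absurd hV Finite.one_lt_card.ne'
    obtain ⟨v₀, -, hspan⟩ := finrank_eq_one_iff'.1 (show Module.finrank K V = 1 by omega)
    have hscal : ∀ s ∈ S, ∃ x : K, ∀ v : V, ρ s v = x • v := by
      intro s hs
      obtain ⟨x, hx⟩ := hspan (ρ s v₀)
      refine ⟨x, fun v => ?_⟩
      obtain ⟨z, rfl⟩ := hspan v
      rw [hτ, hSker s hs, ← hx]
      exact smul_comm z x v₀
    have hcomm : ∀ a b : QuaternionGroup 2, a * b = b * a := by
      intro a b
      obtain ⟨x, hx⟩ := hscal _ (e'.symm a).2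
      obtain ⟨z, hz⟩ := hscal _ (e'.symm b).2
      apply e'.symm.injective
      rw [map_mul, map_mul]
      refine Subtype.ext (hρ (LinearEquiv.ext fun v => ?_))
      show ρ (((e'.symm a : S) : G) * (e'.symm b : S)) v = ρ (((e'.symm b : S) : G) * (e'.symm a : S)) v
      rw [map_mul, map_mul, LinearEquiv.mul_apply, LinearEquiv.mul_apply, hx, hz, hz, hx, smul_comm]
    revert hcomm
    decide
  -- orders
  let Φ : G →* Equiv.Perm (Fin 3) := (autPerm.comp (MulAut.congr e').toMonoidHom).comp MulAut.conjNormal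
  have hinner : ∀ g : G, Φ g = 1 → ∃ s ∈ S, ∀ x ∈ S, g * x * g⁻¹ = s * x * s⁻¹ := by
    intro g hg
    obtain ⟨k, hk⟩ := autPerm_inner _ hg
    refine ⟨e'.symm k, (e'.symm k).2, fun x hx => ?_⟩
    have h1 := hk (e' ⟨x, hx⟩)
    have h2 : MulAut.conjNormal g (⟨x, hx⟩ : S) = e'.symm k * ⟨x, hx⟩ * (e'.symm k)⁻¹ := by
      apply e'.injective
      rw [map_mul, map_mul, map_inv, e'.apply_symm_apply, ← h1]
      show _ = e' (MulAut.conjNormal g (e'.symm (e' ⟨x, hx⟩)))
      rw [e'.symm_apply_apply]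
    exact congrArg Subtype.val h2
  have hle : τ.ker ⊓ Φ.ker ≤ F := by
    rintro g ⟨hg1, hg2⟩
    obtain ⟨s, hs, hsx⟩ := hinner g hg2
    have : s⁻¹ * g ∈ F := hCFF _ fun f hf => by
      obtain ⟨x, hx, c, hc, rfl⟩ := hprod f hf
      have hc' : Commute (s⁻¹ * g) c :=
        (Commute.inv_left (show Commute s c from hSC s hs c hc)).mul_left ((hker g).1 hg1 c hc)
      have hx' : Commute (s⁻¹ * g) x := by
        show s⁻¹ * g * x = x * (s⁻¹ * g)
        rw [mul_assoc, mul_inv_eq_iff_eq_mul.1 (hsx x hx)]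
        group
      exact (hc'.mul_right hx').eq
    have := mul_mem (hSF hs) this
    rwa [mul_inv_cancel_left] at this
  have hd_range : Nat.card τ.range ∣ d := hAut ▸ Subgroup.card_subgroup_dvd_card τ.range
  have hN48 : Nat.card G ∣ 48 * Nat.card C * d := by
    rw [← Subgroup.card_mul_index τ.ker, Subgroup.index_ker]
    refine Nat.mul_dvd_mul ?_ hd_range
    let Ψ : τ.ker →* Equiv.Perm (Fin 3) := Φ.comp τ.ker.subtype
    rw [← Subgroup.card_mul_index Ψ.ker, Subgroup.index_ker]
    have h1 : Nat.card Ψ.ker ∣ Nat.card F := by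
      rw [← Subgroup.card_map_of_injective τ.ker.subtype_injective]
      refine Subgroup.card_dvd_of_le (le_trans ?_ hle)
      rintro _ ⟨g, hg, rfl⟩
      exact ⟨g.2, hg⟩
    have h2 : Nat.card Ψ.range ∣ 6 := by
      refine (Subgroup.card_subgroup_dvd_card Ψ.range).trans ?_
      rw [Nat.card_eq_fintype_card, Fintype.card_perm, Fintype.card_fin]; rfl
    refine (Nat.mul_dvd_mul h1 h2).trans ?_
    rw [hFcard, hS8]
    exact ⟨1, by ring⟩
  have hGV : Nat.card G + 1 = Nat.card V := card_regular ρ htrans hreg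
  rw [hK, ← pow_mul] at hV
  have hG : Nat.card G = q ^ (d * Module.finrank K V) - 1 := by omega
  have hcdvd : Nat.card C ∣ q ^ d - 1 := by
    have := Subgroup.card_dvd_of_injective χ hχ
    rwa [Nat.card_units, hK] at this
  have h8 : 8 ∣ q ^ (d * Module.finrank K V) - 1 := hG ▸ hS8 ▸ Subgroup.card_subgroup_dvd_card S
  obtain ⟨rfl, hm2, hqs⟩ := arith_cases (Fact.out : q.Prime) hq2 hd hm hCodd hcdvd h8 (hG ▸ hN48)
  rw [hm2] at hV hG
  rw [pow_one] at hcdvd
  -- now `C` is central and the kernel of `Φ` is the Fitting subgroup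
  have hτ1 : τ.ker = ⊤ := by
    rw [MonoidHom.ker_eq_top_iff]
    haveI : Subsingleton (K ≃+* K) := (Nat.card_eq_one_iff_unique.1 hAut).1
    exact MonoidHom.ext fun g => Subsingleton.elim _ _
  have hcentral : ∀ g : G, ∀ c ∈ C, g * c = c * g := fun g =>
    (hker g).1 (MonoidHom.mem_ker.1 (hτ1.symm ▸ Subgroup.mem_top g))
  have hΦker : Φ.ker = F := by
    refine le_antisymm (fun g hg => hle ⟨hτ1.symm ▸ Subgroup.mem_top g, hg⟩) fun f hf => ?_
    obtain ⟨s, hs, c, hc, rfl⟩ := hprod f hf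
    rw [MonoidHom.mem_ker]
    have h1 : (MulAut.congr e') (MulAut.conjNormal (c * s)) = MulAut.conj (e' ⟨s, hs⟩) := by
      refine MulEquiv.ext fun x => ?_
      show e' (MulAut.conjNormal (c * s) (e'.symm x)) = e' ⟨s, hs⟩ * x * (e' ⟨s, hs⟩)⁻¹
      conv_rhs => rw [← e'.apply_symm_apply x, ← map_inv, ← map_mul, ← map_mul]
      congr 1
      apply Subtype.ext
      show c * s * (e'.symm x : G) * (c * s)⁻¹ = s * (e'.symm x : G) * s⁻¹
      have h2 : c * (s * (e'.symm x : G) * s⁻¹) = s * (e'.symm x : G) * s⁻¹ * c :=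
        (hcentral _ c hc).symm
      rw [mul_inv_rev, ← mul_assoc, mul_assoc c s, mul_assoc c (s * _), h2, mul_inv_cancel_right]
    show autPerm ((MulAut.congr e') (MulAut.conjNormal (c * s))) = 1
    rw [h1, autPerm_conj]
  have hGprod : Nat.card G = Nat.card Φ.range * (8 * Nat.card C) := by
    rw [← Subgroup.card_mul_index Φ.ker, Subgroup.index_ker, hΦker, hFcard, hS8, mul_comm]
  have hr6 : Nat.card Φ.range ∣ 6 := by
    refine (Subgroup.card_subgroup_dvd_card Φ.range).trans ?_
    rw [Nat.card_eq_fintype_card, Fintype.card_perm, Fintype.card_fin]; rfl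
  have hcpos : 0 < Nat.card C := Nat.card_pos
  have hrange : Nat.card Φ.range ∈ Nat.divisors 6 := Nat.mem_divisors.2 ⟨hr6, by norm_num⟩
  rw [show Nat.divisors 6 = {1, 2, 3, 6} from rfl] at hrange
  simp only [Finset.mem_insert, Finset.mem_singleton] at hrange
  have heven_index : 2 ∣ Nat.card Φ.range → ∃ N : Subgroup G, N.Normal ∧ N.index = 2 := by
    intro h
    obtain ⟨⟨σ, g, rfl⟩, hσ⟩ := exists_prime_orderOf_dvd_card' 2 h
    rw [← Subgroup.orderOf_coe, orderOf_eq_iff two_pos] at hσ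
    have hsign := perm_three_sign (Φ g) (by rw [← sq]; exact hσ.1)
      (fun h1 => hσ.2 1 one_lt_two one_pos (by rw [pow_one]; exact h1))
    refine exists_normal_index_two (H := (Equiv.Perm.sign.comp Φ).ker) ?_
    rw [Subgroup.index_ker]
    have h1 : Nat.card (Equiv.Perm.sign.comp Φ).range ∣ 2 := by
      refine (Subgroup.card_subgroup_dvd_card _).trans ?_
      rw [Nat.card_eq_fintype_card]; rfl
    refine ((Nat.dvd_prime Nat.prime_two).1 h1).resolve_left fun h2 => hsign ?_
    exact Subgroup.mem_bot.1 ((Subgroup.eq_bot_of_card_eq _ h2) ▸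
      (⟨g, rfl⟩ : Equiv.Perm.sign (Φ g) ∈ (Equiv.Perm.sign.comp Φ).range))
  rcases hqs with rfl | rfl | rfl | rfl | rfl
  · -- nine points
    have hG8 : Nat.card G = 8 := by rw [hG]; norm_num
    have hS : S = ⊤ := Subgroup.eq_top_of_card_eq S (hS8.trans hG8.symm)
    refine hjoin y₀ y₀.2 (fun g => ?_) hyC
    haveI : (Subgroup.zpowers (y₀ : G)).Normal := by
      refine Subgroup.normal_of_index_eq_two ?_
      have h1 := (Subgroup.zpowers (y₀ : G)).card_mul_index
      rw [Nat.card_zpowers, hy4, hG8] at h1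
      omega
    exact Subgroup.Normal.conj_mem inferInstance _ (Subgroup.mem_zpowers _) g
  all_goals refine ⟨Or.inr (by rw [hV]; norm_num), fun _ => ?_⟩
  · -- 25 points
    have hc : Nat.card C = 1 := by
      obtain ⟨j, hj⟩ := hCodd
      have := Nat.le_of_dvd (by norm_num) hcdvd
      rcases (by omega : j = 0 ∨ j = 1) with rfl | rfl
      · omega
      · rw [hj] at hcdvd; norm_num at hcdvd
    have hG24 : Nat.card G = 24 := by rw [hG]; norm_num
    rcases index_two_or_sl23 hG24 S e' with h | h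
    · exact Or.inl h
    · exact Or.inr (Or.inl ⟨by rw [hV]; norm_num, h⟩)
  · refine Or.inl (heven_index ?_)
    have hG' : Nat.card G = 48 := by rw [hG]; norm_num
    have hc : Nat.card C ∣ 3 := (Nat.Coprime.dvd_of_dvd_mul_left
      (Nat.coprime_two_right.2 hCodd) (by simpa using hcdvd : Nat.card C ∣ 2 * 3))
    rcases (Nat.dvd_prime Nat.prime_three).1 hc with h | h <;> rw [h, hG'] at hGprod <;> omega
  · -- 121 points
    have hG' : Nat.card G = 120 := by rw [hG]; norm_num
    have hc' : Nat.card C ∣ 5 := (Nat.Coprime.dvd_of_dvd_mul_left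
      (Nat.coprime_two_right.2 hCodd) (by simpa using hcdvd : Nat.card C ∣ 2 * 5))
    have hc : Nat.card C = 5 := by
      rcases (Nat.dvd_prime (by norm_num)).1 hc' with h | h
      · rw [h, hG'] at hGprod
        rcases hrange with r | r | r | r <;> rw [r] at hGprod <;> norm_num at hGprod
      · exact h
    have hidx : C.index = 24 := by
      have := C.card_mul_index
      rw [hc, hG'] at this
      omega
    obtain ⟨L, hL⟩ := Subgroup.exists_right_complement'_of_coprime (N := C) (by rw [hc, hidx]; norm_num)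
    have hLcard : Nat.card L = 24 := hL.symm.index_eq_card.symm.trans hidx
    let f : L × C →* G := MonoidHom.noncommCoprod L.subtype C.subtype fun l c => hcentral l c c.2
    have hf : Function.Bijective f := by
      refine (Nat.bijective_iff_surjective_and_card _).2 ⟨fun g => ?_, ?_⟩
      · obtain ⟨⟨c, l⟩, hcl, -⟩ := hL.existsUnique g
        exact ⟨⟨l, c⟩, (hcentral l c c.2).trans hcl⟩
      · rw [Nat.card_prod, hLcard, hc, hG']
    let E : L × C ≃* G := MulEquiv.ofBijective f hf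
    have hSL : S ≤ L := by
      intro s hs
      obtain ⟨⟨l, c⟩, rfl⟩ := E.surjective s
      have hpow : E (l, c) ^ 8 = 1 := by
        have := pow_card_eq_one' (x := (⟨_, hs⟩ : S))
        rw [hS8] at this
        exact congrArg Subtype.val this
      rw [← map_pow, MulEquiv.map_eq_one_iff] at hpow
      have hc8 : c ^ 8 = 1 := congrArg Prod.snd hpow
      have hc5 : c ^ 5 = 1 := by rw [← hc]; exact pow_card_eq_one'
      have hc1 : c = 1 := by
        have := orderOf_dvd_of_pow_eq_one hc8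
        have h5 := orderOf_dvd_of_pow_eq_one hc5
        exact orderOf_eq_one_iff.1 (Nat.eq_one_of_dvd_coprimes (by norm_num : Nat.Coprime 8 5) this h5)
      show (l : G) * (c : G) ∈ L
      rw [hc1, Subgroup.coe_one, mul_one]
      exact l.2
    rcases index_two_or_sl23 hLcard (S.subgroupOf L) ((Subgroup.subgroupOfEquivOfLe hSL).trans e') with
      ⟨N, -, hN⟩ | hiso
    · refine Or.inl (exists_normal_index_two (H := N.comap ((MonoidHom.fst L C).comp E.symm.toMonoidHom)) ?_)
      rw [Subgroup.index_comap_of_surjective _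
        (fun l => ⟨E (l, 1), by simp⟩), hN]
    · obtain ⟨eL⟩ := hiso
      refine Or.inr (Or.inr ⟨by rw [hV]; norm_num, ⟨E.symm.trans (eL.prodCongr
        (mulEquivOfCyclicCardEq (by rw [hc, Nat.card_congr Multiplicative.toAdd, Nat.card_zmod])))⟩⟩)
  · refine Or.inl (heven_index ?_)
    have hG' : Nat.card G = 528 := by rw [hG]; norm_num
    have hc : Nat.card C ∣ 11 := (Nat.Coprime.dvd_of_dvd_mul_left
      (Nat.coprime_two_right.2 hCodd) (by simpa using hcdvd : Nat.card C ∣ 2 * 11))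
    rcases (Nat.dvd_prime (by norm_num : Nat.Prime 11)).1 hc with h | h <;> rw [h, hG'] at hGprod <;> omega

end CfsgLib.RegLinear
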